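import Cfsg.Agent.Lib.TwoSizes.Basic
import Cfsg.Agent.S4314
import Cfsg.Agent.S4354
import Cfsg.Agent.S4035

/-!
# Centralisers of prime-power elements: elementary facts on class sizes
-/

set_option autoImplicit false

namespace Cfsg.Lib.ClassNM

open Subgroup
open Cfsg.Lib.TwoSizes (PW)

variable {G : Type*} [Group G]

/-- The centraliser of an element. -/
abbrev Cn (x : G) : Subgroup G := centralizer ({x} : Set G)

/-- The class size of an element. -/
noncomputable abbrev ind (x : G) : ℕ := (Cn x).index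

theorem mem_Cn {x g : G} : g ∈ Cn x ↔ Commute g x := mem_centralizer_singleton_iff

theorem mem_Cn_comm {x g : G} : g ∈ Cn x ↔ x ∈ Cn g := by
  rw [mem_Cn, mem_Cn]
  exact ⟨Commute.symm, Commute.symm⟩

theorem center_le_Cn (x : G) : center G ≤ Cn x := fun z hz =>
  mem_Cn.mpr (mem_center_iff.mp hz x).symm

theorem le_Cn_of_center {x : G} (hx : x ∈ center G) (H : Subgroup G) : H ≤ Cn x := fun g _ =>
  mem_Cn.mpr (mem_center_iff.mp hx g)

theorem Cn_mul_le {x y : G} (hxy : Commute x y) (hc : (orderOf x).Coprime (orderOf y)) :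
    Cn (x * y) ≤ Cn x ⊓ Cn y := fun _ hg =>
  ⟨mem_Cn.mpr (TwoSizes.commute_of_commute_mul hxy hc (mem_Cn.mp hg)),
    mem_Cn.mpr (TwoSizes.commute_of_commute_mul hxy.symm hc.symm (hxy.eq ▸ mem_Cn.mp hg))⟩

theorem inf_le_Cn_mul (x y : G) : Cn x ⊓ Cn y ≤ Cn (x * y) := fun _ hg =>
  mem_Cn.mpr ((mem_Cn.mp hg.1).mul_right (mem_Cn.mp hg.2))

theorem Cn_mul {x y : G} (hxy : Commute x y) (hc : (orderOf x).Coprime (orderOf y)) :
    Cn (x * y) = Cn x ⊓ Cn y := le_antisymm (Cn_mul_le hxy hc) (inf_le_Cn_mul x y)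

theorem mem_Cn_conj {x y : G} (g : G) (h : y ∈ Cn x) : g * y * g⁻¹ ∈ Cn (g * x * g⁻¹) := by
  rw [mem_Cn] at h ⊢
  exact h.map (MulAut.conj g).toMonoidHom

theorem PW_conj {t : ℕ} {x : G} (g : G) (hx : PW t x) : PW t (g * x * g⁻¹) := by
  obtain ⟨k, hk⟩ := hx
  exact ⟨k, by rw [conj_pow, hk, mul_one, mul_inv_cancel]⟩

theorem conj_mem_center {x : G} (g : G) (hx : g * x * g⁻¹ ∈ center G) : x ∈ center G := by
  have h := (inferInstance : (center G).Normal).conj_mem _ hx g⁻¹
  simpa [mul_assoc] using h

theorem ind_conj (x g : G) : ind (g * x * g⁻¹) = ind x := by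
  have h : Cn (g * x * g⁻¹) = (Cn x).map (MulAut.conj g).toMonoidHom := by
    ext y
    constructor
    · intro hy
      refine ⟨g⁻¹ * y * g, ?_, by simp [mul_assoc]⟩
      have := mem_Cn_conj g⁻¹ hy
      simpa [mul_assoc] using this
    · rintro ⟨z, hz, rfl⟩
      exact mem_Cn_conj g hz
  rw [ind, h]
  exact Subgroup.index_map_equiv _ (MulAut.conj g)

theorem PW.orderOf_eq {t : ℕ} (ht : t.Prime) {x : G} (hx : PW t x) : ∃ k, orderOf x = t ^ k := by
  obtain ⟨k, hk⟩ := hx
  obtain ⟨i, -, hi⟩ := (Nat.dvd_prime_pow ht).mp (orderOf_dvd_of_pow_eq_one hk)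
  exact ⟨i, hi⟩

section Fin

variable [Finite G]

theorem ind_pos (x : G) : 0 < ind x := Nat.pos_of_ne_zero index_ne_zero_of_finite

theorem ind_dvd_of_le {x y : G} (h : Cn x ≤ Cn y) : ind y ∣ ind x := index_dvd_of_le h

theorem Cn_eq_of_le {x y : G} (h : Cn x ≤ Cn y) (hi : ind x = ind y) : Cn x = Cn y :=
  TwoSizes.eq_of_le_of_index h hi

theorem ind_eq_one_iff {x : G} : ind x = 1 ↔ x ∈ center G := by
  constructor
  · intro h
    rw [ind, index_eq_one] at h
    exact mem_center_iff.mpr fun g => (mem_Cn.mp (h ▸ mem_top g : g ∈ Cn x)).eq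
  · intro h
    rw [ind, index_eq_one]
    exact top_le_iff.mp (le_Cn_of_center h ⊤)

theorem fact_ind (x : G) (r : ℕ) :
    (ind x).factorization r + (Nat.card (Cn x)).factorization r = (Nat.card G).factorization r := by
  rw [← (Cn x).index_mul_card, Nat.factorization_mul index_ne_zero_of_finite Nat.card_pos.ne',
    Finsupp.add_apply]

theorem fact_card_le {A B : Subgroup G} (h : A ≤ B) (r : ℕ) :
    (Nat.card A).factorization r ≤ (Nat.card B).factorization r :=
  (Nat.factorization_le_iff_dvd Nat.card_pos.ne' Nat.card_pos.ne').mpr (card_dvd_of_le h) r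

/-- A `p`-subgroup has order bounded by the `p`-part of any subgroup containing it. -/
theorem card_eq_pow_fact {p : ℕ} [Fact p.Prime] {A : Subgroup G} (hA : IsPGroup p A) :
    Nat.card A = p ^ (Nat.card A).factorization p := by
  obtain ⟨k, hk⟩ := IsPGroup.iff_card.mp hA
  rw [hk, Nat.Prime.factorization_pow Fact.out, Finsupp.single_eq_same]

theorem sylow_fact {p : ℕ} [Fact p.Prime] (P : Sylow p G) :
    (Nat.card (P : Subgroup G)).factorization p = (Nat.card G).factorization p := by
  rw [Sylow.card_eq_multiplicity, Nat.Prime.factorization_pow Fact.out, Finsupp.single_eq_same]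

theorem not_dvd_of_fact {p n : ℕ} (hp : p.Prime) (hn : n ≠ 0) (h : n.factorization p = 0) :
    ¬ p ∣ n := fun hd => by
  have := (hp.pow_dvd_iff_le_factorization (k := 1) hn).mp (by rwa [pow_one])
  omega

theorem exists_sylow_le {p : ℕ} [Fact p.Prime] {H : Subgroup G}
    (h : (Nat.card G).factorization p ≤ (Nat.card H).factorization p) :
    ∃ P : Sylow p G, (P : Subgroup G) ≤ H := by
  refine Cfsg.Agent.S4354.exists_sylow_le (not_dvd_of_fact Fact.out index_ne_zero_of_finite ?_)
  have h1 := congrArg (fun n : ℕ => n.factorization p) H.index_mul_card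
  simp only [Nat.factorization_mul index_ne_zero_of_finite Nat.card_pos.ne', Finsupp.add_apply] at h1
  omega

theorem exists_sylow_le_Cn {p : ℕ} [Fact p.Prime] {x : G} (h : (ind x).factorization p = 0) :
    ∃ P : Sylow p G, (P : Subgroup G) ≤ Cn x :=
  exists_sylow_le (by have := fact_ind x p; omega)

theorem ind_fact_zero_of_sylow {p : ℕ} [Fact p.Prime] {x : G} (P : Sylow p G)
    (h : (P : Subgroup G) ≤ Cn x) : (ind x).factorization p = 0 := by
  have h1 := fact_card_le h p
  rw [sylow_fact] at h1
  have := fact_ind x p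
  omega

/-- If the centraliser of `w` contains a Sylow `r`-subgroup of `G`, each `r`-element has a
conjugate there. -/
theorem exists_conj_mem {r : ℕ} [Fact r.Prime] {H : Subgroup G}
    (h : (Nat.card G).factorization r ≤ (Nat.card H).factorization r) {w : G} (hw : PW r w) :
    ∃ g : G, g * w * g⁻¹ ∈ H := by
  obtain ⟨S, hS⟩ := hw.isPGroup_zpowers.exists_le_sylow
  obtain ⟨P, hP⟩ := exists_sylow_le h
  obtain ⟨g, hg⟩ := MulAction.exists_smul_eq G S P
  refine ⟨g, hP ?_⟩
  rw [← hg, Sylow.coe_subgroup_smul]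
  exact ⟨w, hS (mem_zpowers w), rfl⟩

/-- If `r` divides some class size then every centraliser with full `r`-part contains a
noncentral `r`-element. -/
theorem exists_noncentral_pw {r : ℕ} [Fact r.Prime] {u : G} (hu : r ∣ ind u) {H : Subgroup G}
    (h : (Nat.card G).factorization r ≤ (Nat.card H).factorization r) :
    ∃ w ∈ H, PW r w ∧ w ∉ center G := by
  by_contra hne
  obtain ⟨P, hP⟩ := exists_sylow_le h
  have hPZ : (P : Subgroup G) ≤ center G := fun w hw => by
    by_contra hwZ
    exact hne ⟨w, hP hw, PW.of_isPGroup P.2 hw, hwZ⟩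
  exact not_dvd_of_fact Fact.out index_ne_zero_of_finite
    (ind_fact_zero_of_sylow P (hPZ.trans (center_le_Cn u))) hu

/-- If every `r`-element of `H` is central, the `r`-part of `H` is at most that of the centre. -/
theorem fact_le_center {r : ℕ} [Fact r.Prime] {H : Subgroup G}
    (h : ∀ w ∈ H, PW r w → w ∈ center G) :
    (Nat.card H).factorization r ≤ (Nat.card (center G)).factorization r := by
  obtain ⟨S⟩ : Nonempty (Sylow r H) := inferInstance
  have hle := TwoSizes.sylow_le_center H h S
  have := fact_card_le hle r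
  rwa [card_map_of_injective (subtype_injective _), sylow_fact] at this

theorem fact_eq_center {r : ℕ} [Fact r.Prime] {x : G}
    (h : ∀ w ∈ Cn x, PW r w → w ∈ center G) :
    (Nat.card (Cn x)).factorization r = (Nat.card (center G)).factorization r :=
  le_antisymm (fact_le_center h) (fact_card_le (center_le_Cn x) r)

/-- If a centraliser has `r`-part that of the centre, its `r`-elements are central. -/
theorem mem_center_of_fact {r : ℕ} [Fact r.Prime] {x w : G} (hw : PW r w) (hwx : w ∈ Cn x)
    (h : (Nat.card (Cn x)).factorization r = (Nat.card (center G)).factorization r) :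
    w ∈ center G := by
  obtain ⟨T⟩ : Nonempty (Sylow r (center G)) := inferInstance
  have hT : IsPGroup r ((T : Subgroup (center G)).map (center G).subtype) := T.2.map _
  set T' := (T : Subgroup (center G)).map (center G).subtype with hT'
  have hn : zpowers w ≤ normalizer (T' : Set G) := fun g _ => by
    have key : ∀ s ∈ T', g * s * g⁻¹ = s := fun s hs => by
      rw [mem_center_iff.mp (map_subtype_le _ hs) g, mul_inv_cancel_right]
    rw [mem_normalizer_iff]
    refine fun s => ⟨fun hs => by rwa [key s hs], fun hs => ?_⟩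
    have h1 := key _ hs
    rw [mul_left_inj, mul_right_inj] at h1
    rwa [h1] at hs
  have hW : IsPGroup r (zpowers w ⊔ T' : Subgroup G) :=
    IsPGroup.to_sup_of_normal_right' hw.isPGroup_zpowers hT hn
  have hle : zpowers w ⊔ T' ≤ Cn x :=
    sup_le (zpowers_le.mpr hwx) ((map_subtype_le _).trans (center_le_Cn x))
  have hT'c : (Nat.card T').factorization r = (Nat.card (center G)).factorization r := by
    rw [card_map_of_injective (subtype_injective _), sylow_fact]
  have h1 := fact_card_le hle r
  have h2 : Nat.card (zpowers w ⊔ T' : Subgroup G) ≤ Nat.card T' := by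
    rw [card_eq_pow_fact hW, card_eq_pow_fact hT]
    exact Nat.pow_le_pow_right (Nat.Prime.pos Fact.out) (by omega)
  exact map_subtype_le _ ((eq_of_le_of_card_ge (le_sup_right : T' ≤ zpowers w ⊔ T') h2).ge
    (mem_sup_left (mem_zpowers w)))

/-- Subgroups are determined by their elements of prime-power order. -/
theorem le_of_parts {H K : Subgroup G} (h : ∀ t : ℕ, t.Prime → ∀ g ∈ H, PW t g → g ∈ K) :
    H ≤ K := fun _ hg => TwoSizes.mem_of_parts fun t ht _ i hi => h t ht _ (pow_mem hg i) hi

/-- The class size inside a centraliser. -/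
theorem index_Cn_coe {K : Subgroup G} (w : K) : (Cn w).index = (Cn (w : G)).relIndex K := by
  rw [Subgroup.relIndex]
  congr 1
  ext g
  rw [mem_subgroupOf, mem_Cn, mem_Cn]
  exact ⟨fun h => h.map K.subtype, fun h => Subtype.ext h.eq⟩

theorem ind_mul {x w : G} (hxw : Commute x w) (hc : (orderOf x).Coprime (orderOf w)) :
    ind (x * w) = (Cn w).relIndex (Cn x) * ind x := by
  have h := relIndex_mul_index (inf_le_left : Cn x ⊓ Cn w ≤ Cn x)
  rw [inf_comm (Cn x), inf_relIndex_right, inf_comm] at h
  rw [ind, ind, Cn_mul hxw hc, h]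

end Fin

end Cfsg.Lib.ClassNM
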