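import Cfsg.Agent.Lib.ClassNM.Setup
import Cfsg.Agent.Lib.Local.Basic

/-!
# Class sizes `1, p^a, q^b, p^a q^b` without elements of straight type

Then every `q`-element centralises `O_p`.
-/

set_option autoImplicit false

namespace Cfsg.Lib.ClassNM

open Subgroup
open Cfsg.Lib.TwoSizes (PW)

variable {G : Type*} [Group G] [Finite G] {p q a b : ℕ}

/-- No `q`-element has class size `q^b` and no `p`-element has class size `p^a`. -/
def PQ.Cross (_h : PQ G p q a b) : Prop :=
  (∀ y : G, PW q y → ind y ≠ q ^ b) ∧ ∀ x : G, PW p x → ind x ≠ p ^ a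

omit [Finite G] in
theorem PQ.Cross.symm {h : PQ G p q a b} (hc : h.Cross) : h.symm.Cross := ⟨hc.2, hc.1⟩

/-- `v` centralises `O_r`. -/
def Fixes (r : ℕ) (v : G) : Prop := ∀ w ∈ Cfsg.pCore r G, Commute v w

theorem PQ.Cross.q_fact {h : PQ G p q a b} (hc : h.Cross) {v : G} (hv : PW q v)
    (hvZ : v ∉ center G) : (ind v).factorization p = a ∧ (ind v = p ^ a ∨ ind v = p ^ a * q ^ b) := by
  rcases h.fact_cases hvZ with e | e | e
  · exact ⟨e.2.1, Or.inl e.1⟩
  · exact absurd e.1 (hc.1 v hv)
  · exact ⟨e.2.1, Or.inr e.1⟩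

theorem PQ.Cross.ab {h : PQ G p q a b} (_hc : h.Cross) {u c : G} (hu : PW p u)
    (hui : ind u = p ^ a * q ^ b) (hc : c ∈ Cn u) (hcq : PW q c) : Fixes p c := by
  have : Fact p.Prime := ⟨h.hp⟩
  have hle := h.le_Cn_of_max hui hc (TwoSizes.PW.coprime h.hp h.hq h.ne hu hcq)
  have hcop : (Nat.card (zpowers c)).Coprime p := by
    obtain ⟨k, hk⟩ := PW.orderOf_eq h.hq hcq
    rw [Nat.card_zpowers, hk]
    exact ((Nat.coprime_primes h.hq h.hp).mpr h.ne.symm).pow_left k
  have := pCore_normal p G
  have hb : ⁅Cfsg.pCore p G, zpowers c⁆ = ⊥ :=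
    Coprime.commutator_eq_bot_of_AxB (p := p) (Cfsg.pCore p G) (zpowers u) (zpowers c)
      (Cfsg.Lib.Core.pCore_isPGroup p G) hu.isPGroup_zpowers hcop
      (by rw [normalizer_eq_top]; exact le_top) (by rw [normalizer_eq_top]; exact le_top)
      (by
        rw [zpowers_le, mem_centralizer_iff]
        intro z hz
        obtain ⟨i, rfl⟩ := hz
        exact ((mem_Cn.mp hc).symm.zpow_left i).eq)
      (fun w hw => by
        rw [mem_centralizer_iff]
        intro z hz
        obtain ⟨i, rfl⟩ := hz
        have hwu : w ∈ Cn u :=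
          mem_Cn.mpr (mem_centralizer_iff.mp hw.2 u (mem_zpowers u)).symm
        exact ((mem_Cn.mp (hle hwu)).symm.zpow_left i).eq)
  rw [commutator_eq_bot_iff_le_centralizer] at hb
  exact fun w hw => (mem_centralizer_iff.mp (hb hw) c (mem_zpowers c))

theorem fixes_conj {r : ℕ} {v g : G} (h : Fixes r (g * v * g⁻¹)) : Fixes r v := fun w hw => by
  have h1 := (h _ ((pCore_normal r G).conj_mem w hw g)).map (MulAut.conj g⁻¹).toMonoidHom
  simpa [mul_assoc] using h1

theorem pCore_le_center_of (h : PQ G p q a b) (hfix : ∀ w : G, PW q w → Fixes p w)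
    (hfix' : ∀ w : G, PW p w → Fixes p w) : Cfsg.pCore p G ≤ center G := fun z hz =>
  h.mem_center_of_commute (fun w hw => (hfix' w hw z hz).symm) (fun w hw => (hfix w hw z hz).symm)

/-- The first case: `O_q` is not central. -/
theorem PQ.Cross.first {h : PQ G p q a b} (hc : h.Cross) {s : G} (hs : s ∈ Cfsg.pCore q G)
    (hsZ : s ∉ center G) {v : G} (hv : PW q v) (hmv : ¬ Fixes p v) :
    ind v = p ^ a ∧ ∀ w : G, PW q w → Fixes q w := by
  have : Fact p.Prime := ⟨h.hp⟩
  have : Fact q.Prime := ⟨h.hq⟩
  have hsa := (hc.q_fact (PW.of_isPGroup (Cfsg.Lib.Core.pCore_isPGroup q G) hs) hsZ).1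
  have mover : ∀ v' : G, PW q v' → ¬ Fixes p v' → ind v' = p ^ a := by
    intro v' hv' hm
    have hZ : v' ∉ center G := fun hZ => hm fun w _ => (mem_center_iff.mp hZ w).symm
    rcases (hc.q_fact hv' hZ) with ⟨hva, e | e⟩
    · exact e
    exfalso
    obtain ⟨T⟩ : Nonempty (Sylow p (Cn v')) := inferInstance
    set Pv := (T : Subgroup (Cn v')).map (Cn v').subtype
    have hPv : IsPGroup p Pv := T.2.map _
    have hfix : Pv ≤ Cn s := fun c hc' => mem_Cn.mpr
      (hc.symm.ab (u := v') hv' (by rw [e, mul_comm]) (map_subtype_le _ hc') (PW.of_isPGroup hPv hc')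
        s hs)
    have := pCore_normal p G
    have hR : Cfsg.pCore p G ≤ Cn s := fun w hw => mem_Cn.mpr (commute_pCore h.ne hw hs)
    have heq := eq_of_fact (A := Pv) (B := Pv ⊔ Cfsg.pCore p G) (C := Cn s)
      (hPv.to_sup_of_normal_right (Cfsg.Lib.Core.pCore_isPGroup p G)) le_sup_left (sup_le hfix hR)
      (by
        have h1 := fact_ind s p
        have h2 := fact_ind v' p
        rw [card_map_of_injective (subtype_injective _), sylow_fact]
        omega)
    exact hm fun w hw => (mem_Cn.mp (map_subtype_le _ (heq.ge (mem_sup_right hw)))).symm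
  refine ⟨mover v hv hmv, ?_⟩
  have moverS : ∀ v' : G, PW q v' → ¬ Fixes p v' → Fixes q v' := by
    intro v' hv' hm w hw
    obtain ⟨Q, hQ⟩ := exists_sylow_le_Cn (p := q) (x := v') (by
      rw [mover v' hv' hm, h.hp.factorization_pow, Finsupp.single_eq_of_ne h.ne.symm])
    exact (mem_Cn.mp (hQ (Cfsg.Lib.Core.pCore_le_sylow Q hw))).symm
  intro w hw
  by_cases hwf : Fixes p w
  · obtain ⟨Q, hQ⟩ := hw.isPGroup_zpowers.exists_le_sylow
    obtain ⟨g, hg⟩ := exists_conj_mem (H := (Q : Subgroup G)) (sylow_fact Q).ge hv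
    set v' := g * v * g⁻¹ with hv'
    have hm' : ¬ Fixes p v' := fun h' => hmv (fixes_conj h')
    have hwQ : w ∈ (Q : Subgroup G) := hQ (mem_zpowers w)
    have hprod : ¬ Fixes p (w * v') := fun h' => hm' fun z hz => by
      have := (hwf z hz).inv_left.mul_left (h' z hz)
      rwa [inv_mul_cancel_left] at this
    intro z hz
    have h1 := moverS _ (PW.of_isPGroup Q.2 (mul_mem hwQ hg)) hprod z hz
    have h2 := moverS v' (PW.of_isPGroup Q.2 hg) hm' z hz
    have := h1.mul_left h2.inv_left
    rwa [mul_inv_cancel_right] at this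
  · exact moverS w hw hwf

/-- A commuting pair of a `q`-element `v` of size `p^a` moving `O_p` and a `p`-element of size
`q^b` cannot exist when all `p`-elements centralise `O_p`. -/
theorem PQ.Cross.no_pair {h : PQ G p q a b} (_hc : h.Cross)
    (hR : ∀ w : G, PW p w → Fixes p w) {v t : G} (hv : PW q v) (hvi : ind v = p ^ a)
    (hmv : ¬ Fixes p v) (ht : PW p t) (hti : ind t = q ^ b) (htv : Commute t v) : False := by
  have : Fact p.Prime := ⟨h.hp⟩
  have : Fact q.Prime := ⟨h.hq⟩
  obtain ⟨Q, hQ⟩ := exists_sylow_le_Cn (p := q) (x := v) (by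
    rw [hvi, h.hp.factorization_pow, Finsupp.single_eq_of_ne h.ne.symm])
  obtain ⟨P, hP⟩ := exists_sylow_le_Cn (p := p) (x := t) (by
    rw [hti, h.hq.factorization_pow, Finsupp.single_eq_of_ne h.ne])
  have hRp : IsPGroup p (Cfsg.pCore p G) := Cfsg.Lib.Core.pCore_isPGroup p G
  have hpR : ∀ {z : G}, z ∈ Cfsg.pCore p G → PW p z := fun hz => PW.of_isPGroup hRp hz
  have hvQ : v ∈ (Q : Subgroup G) :=
    Cfsg.Agent.S4354.mem_sylow_of_centralizes Q (PW.orderOf_eq h.hq hv) hQ
  have habR : ∀ {z z' : G}, z ∈ Cfsg.pCore p G → z' ∈ Cfsg.pCore p G → Commute z z' :=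
    fun hz hz' => hR _ (hpR hz) _ hz'
  set φ : G → G := fun r => r⁻¹ * (v * r * v⁻¹) with hφ
  have hφR : ∀ r ∈ Cfsg.pCore p G, φ r ∈ Cfsg.pCore p G := fun r hr =>
    mul_mem (inv_mem hr) ((pCore_normal p G).conj_mem r hr v)
  have trick : ∀ r ∈ Cfsg.pCore p G, Commute (φ r) v → φ r = 1 := fun r hr hcm =>
    eq_one_of_fix_diff (e := r) h.hp h.hq h.ne (hpR (hφR r hr)) hv hcm (by simp [hφ])
  obtain ⟨r, hr, hrv⟩ : ∃ r ∈ Cfsg.pCore p G, ¬ Commute v r := by
    simp only [Fixes, not_forall, exists_prop] at hmv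
    exact hmv
  set e := φ r with he
  have he1 : e ≠ 1 := fun h1 => hrv (mul_inv_eq_iff_eq_mul.mp (inv_mul_eq_one.mp h1).symm)
  have heR := hφR r hr
  have hev : ¬ Commute e v := fun hcm => he1 (trick r hr hcm)
  have het : Commute t e := hR t ht e heR
  have hfullP : ∀ z : G, (P : Subgroup G) ≤ Cn z → z ∉ center G → ind z = q ^ b := by
    intro z hz hzZ
    have h0 := ind_fact_zero_of_sylow P hz
    rcases h.fact_cases hzZ with e' | e' | e'
    · have := h.ha; omega
    · exact e'.1
    · have := h.ha; omega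
  have hPe : (P : Subgroup G) ≤ Cn e := fun c hc' =>
    mem_Cn.mpr (hR c (PW.of_isPGroup P.2 hc') e heR)
  have hei : ind e = q ^ b := hfullP e hPe fun hZ => hev (mem_center_iff.mp hZ v).symm
  have hPte : (P : Subgroup G) ≤ Cn (t * e) := (le_inf hP hPe).trans (inf_le_Cn_mul t e)
  have htei : ind (t * e) = q ^ b := hfullP _ hPte fun hZ => hev (by
    have h1 : Commute (t * e) v := (mem_center_iff.mp hZ v).symm
    have := htv.inv_left.mul_left h1
    rwa [inv_mul_cancel_left] at this)
  have hcard : ∀ z : G, ind z = q ^ b →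
      Nat.card ((Q : Subgroup G) ⊓ Cn z : Subgroup G) = q ^ ((Nat.card G).factorization q - b) := by
    intro z hz
    have hp2 : IsPGroup q ((Q : Subgroup G) ⊓ Cn z : Subgroup G) := Q.2.to_le inf_le_left
    rw [card_eq_pow_fact hp2]
    congr 1
    have hzb : (ind z).factorization q = b := by
      rw [hz, h.hq.factorization_pow, Finsupp.single_eq_same]
    have h1 := fact_ind z q
    have h2 := fact_card_le (inf_le_right : (Q : Subgroup G) ⊓ Cn z ≤ Cn z) q
    have h3 : (Cn z).relIndex (Q : Subgroup G) ≤ (Cn z).index := by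
      rw [← relIndex_top_right]
      exact relIndex_le_of_le_right le_top (by rw [relIndex_top_right]; exact index_ne_zero_of_finite)
    have h4 := relIndex_mul_relIndex ⊥ ((Q : Subgroup G) ⊓ Cn z) (Q : Subgroup G) bot_le inf_le_left
    rw [relIndex_bot_left, relIndex_bot_left, inf_comm, inf_relIndex_right, inf_comm] at h4
    obtain ⟨k, hk⟩ := IsPGroup.index (hG := Q.2) ((Cn z).subgroupOf (Q : Subgroup G))
    change (Cn z).relIndex (Q : Subgroup G) = q ^ k at hk
    have h5 := congrArg (fun j : ℕ => j.factorization q) h4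
    rw [hk] at h5 h3
    change _ ≤ ind z at h3
    rw [hz] at h3
    simp only [Nat.factorization_mul Nat.card_pos.ne' (pow_ne_zero _ h.hq.ne_zero),
      Finsupp.add_apply, h.hq.factorization_pow, Finsupp.single_eq_same] at h5
    rw [sylow_fact] at h5
    have := (Nat.pow_le_pow_iff_right h.hq.one_lt).mp h3
    omega
  have hsub : (Q : Subgroup G) ⊓ Cn (t * e) ≤ (Q : Subgroup G) ⊓ Cn t ⊓ Cn e := by
    rintro g ⟨hgQ, hg⟩
    have hgv : Commute g v := mem_Cn.mp (hQ hgQ)
    have h1 : g * t * g⁻¹ * (g * e * g⁻¹) = t * e := by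
      have := (mem_Cn.mp hg).eq
      calc g * t * g⁻¹ * (g * e * g⁻¹) = g * (t * e) * g⁻¹ := by simp [mul_assoc]
        _ = t * e := by rw [this, mul_inv_cancel_right]
    have hgvv : v * g * v⁻¹ = g := by rw [← hgv.eq, mul_inv_cancel_right]
    have hgr : g * r * g⁻¹ ∈ Cfsg.pCore p G := (pCore_normal p G).conj_mem r hr g
    have h2 : g * e * g⁻¹ = φ (g * r * g⁻¹) := by
      have hgi : g⁻¹ * v = v * g⁻¹ := hgv.inv_left.eq
      have hgi' : v⁻¹ * g = g * v⁻¹ := (hgv.inv_right).eq.symm
      simp only [he, hφ]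
      calc g * (r⁻¹ * (v * r * v⁻¹)) * g⁻¹ = g * r⁻¹ * (v * r * v⁻¹) * g⁻¹ := by simp [mul_assoc]
        _ = (g * r * g⁻¹)⁻¹ * ((g * v) * r * (g * v)⁻¹) := by simp [mul_assoc]
        _ = _ := by rw [hgv.eq]; simp [mul_assoc]
    set d := g * r * g⁻¹ * r⁻¹ with hd
    have hdR : d ∈ Cfsg.pCore p G := mul_mem hgr (inv_mem hr)
    have h3 : φ d = g * e * g⁻¹ * e⁻¹ := by
      rw [h2, he]
      simp only [hφ]
      have hc1 : Commute (v * (g * r * g⁻¹) * v⁻¹) (v * r⁻¹ * v⁻¹) :=
        habR ((pCore_normal p G).conj_mem _ hgr v) ((pCore_normal p G).conj_mem _ (inv_mem hr) v)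
      have hc2 : Commute r (((g * r * g⁻¹))⁻¹ * (v * (g * r * g⁻¹) * v⁻¹)) :=
        habR hr (hφR _ hgr)
      have hinv : (r⁻¹ * (v * r * v⁻¹))⁻¹ = (v * r⁻¹ * v⁻¹) * r := by simp [mul_assoc]
      rw [hinv]
      calc d⁻¹ * (v * d * v⁻¹)
          = r * ((g * r * g⁻¹)⁻¹ * (v * (g * r * g⁻¹) * v⁻¹)) * (v * r⁻¹ * v⁻¹) := by
            simp [hd, mul_assoc]
        _ = ((g * r * g⁻¹)⁻¹ * (v * (g * r * g⁻¹) * v⁻¹)) * (r * (v * r⁻¹ * v⁻¹)) := by
            rw [hc2.eq, mul_assoc]
        _ = _ := by
            rw [(habR hr ((pCore_normal p G).conj_mem _ (inv_mem hr) v)).eq, mul_assoc, mul_assoc,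
              mul_assoc]
    have h4 : Commute (g * e * g⁻¹ * e⁻¹) v := by
      have h5 : g * e * g⁻¹ * e⁻¹ = (g * t * g⁻¹)⁻¹ * t := by
        have := inv_mul_cancel_left (g * t * g⁻¹) (g * e * g⁻¹)
        rw [h1] at this
        rw [← this]
        simp [mul_assoc]
      rw [h5]
      exact ((hgv.mul_left htv).mul_left hgv.inv_left).inv_left.mul_left htv
    have h6 : g * e * g⁻¹ * e⁻¹ = 1 := by rw [← h3] at h4 ⊢; exact trick d hdR h4
    have hge : Commute g e := mul_inv_eq_iff_eq_mul.mp (mul_inv_eq_one.mp h6)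
    refine ⟨⟨hgQ, mem_Cn.mpr ?_⟩, mem_Cn.mpr hge⟩
    have := (mem_Cn.mp hg).mul_right hge.inv_right
    rwa [mul_inv_cancel_right] at this
  have heq := eq_of_le_of_card_ge (hsub.trans inf_le_left)
    (by rw [hcard _ htei, hcard _ hti])
  exact hev (mem_Cn.mp ((hsub (heq.ge ⟨hvQ, mem_Cn.mpr htv.symm⟩)).2)).symm

theorem PQ.Cross.fix {h : PQ G p q a b} (hc : h.Cross) {v : G} (hv : PW q v) : Fixes p v := by
  have : Fact p.Prime := ⟨h.hp⟩
  have : Fact q.Prime := ⟨h.hq⟩
  have ha := h.ha
  have hb := h.hb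
  by_contra hmv
  have hRp : IsPGroup p (Cfsg.pCore p G) := Cfsg.Lib.Core.pCore_isPGroup p G
  by_cases hS : ∃ s ∈ Cfsg.pCore q G, s ∉ center G
  · obtain ⟨s, hs, hsZ⟩ := hS
    obtain ⟨hvi, hfixS⟩ := hc.first hs hsZ hv hmv
    obtain ⟨r, hr, hrZ⟩ : ∃ r ∈ Cfsg.pCore p G, r ∉ center G := by
      by_contra hne
      push Not at hne
      exact hmv fun w hw => (mem_center_iff.mp (hne w hw) v)
    obtain ⟨t₀, ht₀, hmt⟩ : ∃ t₀ : G, PW p t₀ ∧ ¬ Fixes q t₀ := by
      by_contra hne
      push Not at hne
      exact hsZ (pCore_le_center_of h.symm hne hfixS hs)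
    have hfixR := (hc.symm.first hr hrZ ht₀ hmt).2
    obtain ⟨T⟩ : Nonempty (Sylow p (Cn v)) := inferInstance
    set Pv := (T : Subgroup (Cn v)).map (Cn v).subtype
    have hPv : IsPGroup p Pv := T.2.map _
    have hvZ : v ∉ center G := fun hZ => hmv fun w _ => (mem_center_iff.mp hZ w).symm
    have hva := (hc.q_fact hv hvZ).1
    have hsa := (hc.q_fact (PW.of_isPGroup (Cfsg.Lib.Core.pCore_isPGroup q G) hs) hsZ).1
    obtain ⟨t, htP, hts⟩ : ∃ t ∈ Pv, ¬ Commute t s := by
      by_contra hne
      push Not at hne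
      have := pCore_normal p G
      have hR : Cfsg.pCore p G ≤ Cn s := fun w hw => mem_Cn.mpr (commute_pCore h.ne hw hs)
      have heq := eq_of_fact (A := Pv) (B := Pv ⊔ Cfsg.pCore p G) (C := Cn s)
        (hPv.to_sup_of_normal_right hRp) le_sup_left (sup_le (fun c hc' => mem_Cn.mpr (hne c hc')) hR)
        (by
          have h1 := fact_ind s p
          have h2 := fact_ind v p
          rw [card_map_of_injective (subtype_injective _), sylow_fact]
          omega)
      exact hmv fun w hw => (mem_Cn.mp (map_subtype_le _ (heq.ge (mem_sup_right hw)))).symm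
    have htp := PW.of_isPGroup hPv htP
    have hti := (hc.symm.first hr hrZ htp fun hf => hts (hf s hs)).1
    exact hc.no_pair hfixR hv hvi hmv htp hti (mem_Cn.mp (map_subtype_le _ htP))
  · push Not at hS
    have hSfix : ∀ (w : G), ∀ z ∈ Cfsg.pCore q G, Commute w z := fun w z hz =>
      mem_center_iff.mp (hS z hz) w
    have hfix_central : ∀ w : G, PW q w → Fixes p w → w ∈ center G := fun w hw hf =>
      hS _ (h.mem_pCore h.hq hw hf (hSfix w))
    have hnc : ∀ {c : G}, c ∉ center G → PW q c → (ind c).factorization q ≠ 0 →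
        ind c = p ^ a * q ^ b := by
      intro c hcZ hcq hne
      rcases h.fact_cases hcZ with e | e | e
      · exact absurd e.2.2 hne
      · exact absurd e.1 (hc.1 c hcq)
      · exact e.1
    -- every noncentral `p`-element has class size `q^b`
    have hpb : ∀ u : G, PW p u → u ∉ center G → ind u = q ^ b := by
      intro u hu huZ
      rcases h.fact_cases huZ with e | e | e
      · exact absurd e.1 (hc.2 u hu)
      · exact e.1
      exfalso
      have hZq := fact_eq_center (x := u) fun w hw hwq =>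
        hfix_central w hwq (hc.ab hu e.1 hw hwq)
      have hGq := fact_ind u q
      rw [e.2.2] at hGq
      have hq0 : ∀ c : G, PW q c → c ∉ center G → ind c = p ^ a := by
        intro c hcq hcZ
        rcases (hc.q_fact hcq hcZ) with ⟨-, e' | e'⟩
        · exact e'
        exfalso
        refine hcZ (mem_center_of_fact (x := c) hcq (mem_Cn.mpr (Commute.refl c)) ?_)
        have h1 := fact_ind c q
        rw [e', h.sizes.fact_nm, h.hp.factorization_pow, h.hq.factorization_pow,
          Finsupp.single_eq_same, Finsupp.single_eq_of_ne h.ne.symm, zero_add] at h1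
        omega
      obtain ⟨t, x, ht, hxt, hx⟩ := h.sizes.exists_part
      have hxZ := h.not_center (Or.inl hx)
      obtain rfl : t = q := by
        by_contra htq
        by_cases htp : t = p
        · exact hc.2 x (htp ▸ hxt) hx
        · exact hxZ (h.other_central ht htp htq hxt)
      have hcp : ∀ w ∈ Cn x, PW p w → w ∈ center G := by
        intro w hw hwp
        by_contra hwZ
        refine hxZ (mem_center_of_fact hxt (mem_Cn_comm.mp hw) ?_)
        have := fact_ind w t
        rcases h.fact_cases hwZ with e' | e' | e'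
        · exact absurd e'.1 (hc.2 w hwp)
        · omega
        · omega
      have := fact_eq_center hcp
      have h5 := fact_ind x p
      rw [hx, h.hp.factorization_pow, Finsupp.single_eq_same] at h5
      have h6 := fact_ind u p
      exact huZ (mem_center_of_fact hu (mem_Cn.mpr (Commute.refl u)) (by omega))
    have hfixR : ∀ w : G, PW p w → Fixes p w := by
      intro w hw
      by_cases hwZ : w ∈ center G
      · exact fun z _ => (mem_center_iff.mp hwZ z).symm
      obtain ⟨P, hP⟩ := exists_sylow_le_Cn (p := p) (x := w) (by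
        rw [hpb w hw hwZ, h.hq.factorization_pow, Finsupp.single_eq_of_ne h.ne])
      exact fun z hz => (mem_Cn.mp (hP (Cfsg.Lib.Core.pCore_le_sylow P hz))).symm
    have hpR : ∀ w : G, PW p w → w ∈ Cfsg.pCore p G := fun w hw =>
      h.mem_pCore h.hp hw (hfixR w hw) (hSfix w)
    have pair : ∀ x' w : G, PW q x' → ind x' = p ^ a → PW p w → w ∉ center G → Commute w x' →
        False := fun x' w hx' hxi hw hwZ hcm =>
      hc.no_pair hfixR hx' hxi (fun hf => h.not_center (Or.inl hxi) (hfix_central x' hx' hf)) hw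
        (hpb w hw hwZ) hcm
    -- every `q`-element of class size `p^a q^b` commutes only with central `p`-elements
    have hvp : ∀ c : G, PW q c → ind c = p ^ a * q ^ b → ∀ w ∈ Cn c, PW p w → w ∈ center G := by
      intro c hcq hci w hw hwp
      by_contra hwZ
      obtain ⟨t, x, ht, hxt, hx⟩ := h.sizes.exists_part
      obtain rfl : t = q := by
        by_contra htq
        by_cases htp : t = p
        · exact hc.2 x (htp ▸ hxt) hx
        · exact h.not_center (Or.inl hx) (h.other_central ht htp htq hxt)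
      obtain ⟨g, hg⟩ := exists_conj_mem (H := Cn x) (w := c) (r := t) (by
        have := fact_ind x t
        rw [hx, h.hp.factorization_pow, Finsupp.single_eq_of_ne h.ne.symm] at this
        omega) hcq
      have hx' : g⁻¹ * x * g⁻¹⁻¹ ∈ Cn c := by
        have := mem_Cn_conj g⁻¹ (mem_Cn_comm.mp hg)
        simpa [mul_assoc] using this
      have hle := h.le_Cn_of_max hci hw (TwoSizes.PW.coprime h.hq h.hp h.ne.symm hcq hwp)
      exact pair _ w (PW_conj g⁻¹ hxt) (by rw [ind_conj, hx]) hwp hwZ (mem_Cn.mp (hle hx')).symm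
    -- there is such an element
    obtain ⟨u, hu⟩ := h.sizes.exnm
    obtain ⟨c, hcq, hci⟩ : ∃ c : G, PW q c ∧ ind c = p ^ a * q ^ b := by
      by_contra hne
      set N := orderOf u with hN
      set c := u ^ (N / q ^ N.factorization q) with hcdef
      have hcq : PW q c := ⟨N.factorization q, by
        rw [hcdef, ← pow_mul, mul_comm, Nat.ordProj_mul_ordCompl_eq_self, pow_orderOf_eq_one]⟩
      by_cases hpart : ∀ i, PW p (u ^ i) → u ^ i ∈ center G
      · -- then `u` and its `q`-part have the same centraliser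
        have hle : Cn c ≤ Cn u := by
          intro g hg
          rw [mem_Cn_comm]
          refine TwoSizes.mem_of_parts fun l hl _ i hi => ?_
          by_cases hlp : l = p
          · exact center_le_Cn g (hpart i (hlp ▸ hi))
          by_cases hlq : l = q
          · obtain ⟨k, hk⟩ := hi
            rw [hlq, ← pow_mul] at hk
            have hd : N ∣ i * q ^ N.factorization q := by
              have h1 : N ∣ i * q ^ k := orderOf_dvd_of_pow_eq_one hk
              have hcop : (N / q ^ N.factorization q).Coprime (q ^ k) :=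
                (Nat.coprime_ordCompl h.hq (orderOf_pos u).ne').symm.pow_right k
              have h2 := hcop.dvd_of_dvd_mul_right ((Nat.ordCompl_dvd N q).trans h1)
              have h3 := Nat.mul_dvd_mul_right h2 (q ^ N.factorization q)
              rwa [mul_comm, Nat.ordProj_mul_ordCompl_eq_self] at h3
            have hd2 : N / q ^ N.factorization q ∣ i := by
              refine ((Nat.coprime_ordCompl h.hq (orderOf_pos u).ne').symm.pow_right
                (N.factorization q)).dvd_of_dvd_mul_right ((Nat.ordCompl_dvd N q).trans hd)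
            obtain ⟨j, rfl⟩ := hd2
            rw [pow_mul]
            exact pow_mem (mem_Cn_comm.mp hg) j
          · exact center_le_Cn g (h.other_central hl hlp hlq hi)
        have heq : Cn u = Cn c :=
          le_antisymm (TwoSizes.cent_mono_of_mem_zpowers (pow_mem (mem_zpowers u) _)) hle
        exact hne ⟨c, hcq, by rw [ind, ← heq]; exact hu⟩
      · push Not at hpart
        obtain ⟨i, hi, hiZ⟩ := hpart
        by_cases hcZ : c ∈ center G
        · -- then `u` has the class size of a `p`-element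
          have hall : ∀ j, PW q (u ^ j) → u ^ j ∈ center G := by
            intro j hj
            obtain ⟨k, hk⟩ := hj
            rw [← pow_mul] at hk
            have hd2 : N / q ^ N.factorization q ∣ j :=
              ((Nat.coprime_ordCompl h.hq (orderOf_pos u).ne').symm.pow_right k).dvd_of_dvd_mul_right
                ((Nat.ordCompl_dvd N q).trans (orderOf_dvd_of_pow_eq_one hk))
            obtain ⟨l, rfl⟩ := hd2
            rw [pow_mul]
            exact pow_mem hcZ l
          obtain ⟨P, hP⟩ := exists_sylow_le_Cn (p := p) (x := u ^ i) (by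
            rw [hpb _ hi hiZ, h.hq.factorization_pow, Finsupp.single_eq_of_ne h.ne])
          have hle : (P : Subgroup G) ≤ Cn u := by
            intro g hg
            rw [mem_Cn_comm]
            refine TwoSizes.mem_of_parts fun l hl _ j hj => ?_
            by_cases hlp : l = p
            · have hgp := PW.of_isPGroup P.2 hg
              exact mem_Cn.mpr (hfixR g hgp _ (hpR _ (hlp ▸ hj))).symm
            by_cases hlq : l = q
            · exact center_le_Cn g (hall j (hlq ▸ hj))
            · exact center_le_Cn g (h.other_central hl hlp hlq hj)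
          have h0 := ind_fact_zero_of_sylow P hle
          rw [hu, h.sizes.fact_nm, h.hp.factorization_pow, Finsupp.single_eq_same] at h0
          omega
        · rcases (hc.q_fact hcq hcZ).2 with e | e
          · exact pair c (u ^ i) hcq e hi hiZ ((Commute.refl u).pow_pow _ _)
          · exact hne ⟨c, hcq, e⟩
    have hcb : (ind c).factorization p = a := (hc.q_fact hcq (h.not_center (Or.inr (Or.inr hci)))).1
    have hZp := fact_eq_center (x := c) (hvp c hcq hci)
    obtain ⟨t, y, ht, hyt, hy⟩ := h.sizes.symm.exists_part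
    obtain rfl : t = p := by
      by_contra htp
      by_cases htq : t = q
      · exact hc.1 y (htq ▸ hyt) hy
      · exact h.not_center (Or.inr (Or.inl hy)) (h.other_central ht htp htq hyt)
    have hyq : ∀ w ∈ Cn y, PW q w → w ∈ center G := by
      intro w hw hwq
      by_contra hwZ
      refine h.not_center (Or.inr (Or.inl hy)) (mem_center_of_fact hyt (mem_Cn_comm.mp hw) ?_)
      have h1 := fact_ind w t
      have h2 := fact_ind c t
      have h3 := (hc.q_fact hwq hwZ).1
      omega
    have h1 := fact_eq_center hyq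
    have h2 := fact_ind y q
    rw [hy, h.hq.factorization_pow, Finsupp.single_eq_same] at h2
    have h3 := fact_ind c q
    rw [hci, h.sizes.fact_nm, h.hp.factorization_pow, h.hq.factorization_pow,
      Finsupp.single_eq_same, Finsupp.single_eq_of_ne h.ne.symm, zero_add] at h3
    exact h.not_center (Or.inr (Or.inr hci))
      (mem_center_of_fact hcq (mem_Cn.mpr (Commute.refl c)) (by omega))

end Cfsg.Lib.ClassNM
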