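import Cfsg.Agent.Lib.ClassNM.Straight
import Cfsg.Agent.Lib.ClassNM.Crossed

/-!
# Groups with class sizes `1, n, m, nm` are nilpotent and `n`, `m` are prime powers
-/

set_option autoImplicit false

namespace Cfsg.Lib.ClassNM

open Subgroup
open Cfsg.Lib.TwoSizes (PW)

variable {G : Type*} [Group G] [Finite G] {p q a b : ℕ}

theorem PQ.fix (h : PQ G p q a b) {v : G} (hv : PW q v) : Fixes p v := by
  by_cases hy : ∃ y : G, PW q y ∧ ind y = q ^ b
  · exact h.straight_fix hy hv
  push Not at hy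
  refine PQ.Cross.fix (h := h) ⟨hy, fun x hxp hx => ?_⟩ hv
  obtain ⟨t, y, ht, hyt, hyi⟩ := h.sizes.symm.exists_part
  by_cases htq : t = q
  · exact hy y (htq ▸ hyt) hyi
  by_cases htp : t = p
  · exact h.symm.no_crossing hxp hx (htp ▸ hyt) hyi
  · exact h.not_center (Or.inr (Or.inl hyi)) (h.other_central ht htp htq hyt)

theorem PQ.sylow_normal (h : PQ G p q a b) (Q : Sylow q G) : (Q : Subgroup G).Normal := by
  have : Fact p.Prime := ⟨h.hp⟩
  have : Fact q.Prime := ⟨h.hq⟩
  have := pCore_normal p G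
  set D := centralizer ((Cfsg.pCore p G : Subgroup G) : Set G) with hD
  have hQD : (Q : Subgroup G) ≤ D := fun w hw => mem_centralizer_iff.mpr fun z hz =>
    (h.fix (PW.of_isPGroup Q.2 hw) z hz).symm.eq
  have hreg : ∀ v : D, (orderOf v).Coprime q → ¬ q ∣ (ConjClasses.mk v).carrier.ncard := by
    intro v hv
    have hvc : v ∈ center D := by
      refine TwoSizes.mem_of_parts fun t ht htv i hi => ?_
      have htq : t ≠ q := by
        rintro rfl
        exact h.hq.coprime_iff_not_dvd.mp hv.symm htv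
      have hi' : PW t ((v ^ i : D) : G) := by
        obtain ⟨k, hk⟩ := hi
        exact ⟨k, by rw [← Subgroup.coe_pow, hk, Subgroup.coe_one]⟩
      refine mem_center_iff.mpr fun d => Subtype.ext ?_
      show (d : G) * ((v ^ i : D) : G) = ((v ^ i : D) : G) * (d : G)
      by_cases htp : t = p
      · have hmem := h.mem_pCore ht hi'
          (fun z hz => (mem_centralizer_iff.mp (v ^ i).2 z hz).symm)
          (fun z hz => h.symm.fix (htp ▸ hi') z hz)
        exact (mem_centralizer_iff.mp d.2 _ (htp ▸ hmem)).symm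
      · exact mem_center_iff.mp (h.other_central ht htp htq hi') d
    rw [Cfsg.Agent.S4035.carrier_ncard_eq_index]
    rw [show (centralizer ({v} : Set D)).index = 1 from ind_eq_one_iff.mpr hvc]
    exact h.hq.not_dvd_one
  obtain ⟨hn, -⟩ := Cfsg.Agent.S4035.result hreg (Q.subtype hQD)
  have := Sylow.characteristic_of_normal (Q.subtype hQD) hn
  have h2 := Cfsg.Lib.Core.normal_map_char_of_normal ((Q.subtype hQD : Sylow q D) : Subgroup D)
  rwa [Sylow.coe_subtype, subgroupOf_map_subtype, inf_eq_left.mpr hQD] at h2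

theorem PQ.nilpotent (h : PQ G p q a b) : Group.IsNilpotent G := by
  refine (Group.isNilpotent_of_finite_tfae.out 0 3 rfl rfl).2 fun r hr P => ?_
  have : Fact r.Prime := hr
  by_cases hrq : r = q
  · subst hrq; exact h.sylow_normal P
  by_cases hrp : r = p
  · subst hrp; exact h.symm.sylow_normal P
  refine ⟨fun x hx g => ?_⟩
  have hc := h.other_central hr.out hrp hrq (PW.of_isPGroup P.2 hx)
  rwa [mem_center_iff.mp hc g, mul_inv_cancel_right]

theorem Sizes.nilpotent {n m : ℕ} (h : Sizes G n m) :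
    Group.IsNilpotent G ∧ IsPrimePow n ∧ IsPrimePow m := by
  obtain ⟨hn, hm⟩ := h.isPrimePow
  refine ⟨?_, hn, hm⟩
  obtain ⟨p, a, hp, ha, rfl⟩ := (isPrimePow_nat_iff _).mp hn
  obtain ⟨q, b, hq, hb, rfl⟩ := (isPrimePow_nat_iff _).mp hm
  exact PQ.nilpotent ⟨hp, hq, ha, hb, h⟩

end Cfsg.Lib.ClassNM
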