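import Cfsg.Agent.Lib.ClassNM.Basic
import Cfsg.Agent.S4033

/-!
# Class sizes `1, n, m, nm`: both `n` and `m` are prime powers
-/

set_option autoImplicit false

namespace Cfsg.Lib.ClassNM

open Subgroup
open Cfsg.Lib.TwoSizes (PW)

variable {G : Type*} [Group G] [Finite G] {n m : ℕ}

/-- The class sizes are among `1, n, m, nm`, all of which occur, with coprime `n, m > 1`. -/
structure Sizes (G : Type*) [Group G] (n m : ℕ) : Prop where
  one_lt_n : 1 < n
  one_lt_m : 1 < m
  cop : n.Coprime m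
  cases : ∀ x : G, ind x = 1 ∨ ind x = n ∨ ind x = m ∨ ind x = n * m
  exn : ∃ x : G, ind x = n
  exm : ∃ x : G, ind x = m
  exnm : ∃ x : G, ind x = n * m

omit [Finite G] in
theorem Sizes.symm (h : Sizes G n m) : Sizes G m n :=
  ⟨h.one_lt_m, h.one_lt_n, h.cop.symm, fun x => by
    rcases h.cases x with e | e | e | e <;> simp [e, mul_comm],
    h.exm, h.exn, by simpa [mul_comm] using h.exnm⟩

omit [Finite G] in
theorem Sizes.not_dvd (h : Sizes G n m) {r : ℕ} (hr : r.Prime) (hn : r ∣ n) : ¬ r ∣ m :=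
  fun hm => hr.ne_one (Nat.eq_one_of_dvd_coprimes h.cop hn hm)

omit [Finite G] in
theorem Sizes.dvd_n (h : Sizes G n m) {x : G} (hd : ind x ∣ n) : ind x = 1 ∨ ind x = n := by
  have h1 := h.one_lt_m
  rcases h.cases x with e | e | e | e
  · exact Or.inl e
  · exact Or.inr e
  all_goals
    rw [e] at hd
    have : m ∣ n := dvd_trans (by simp) hd
    exact absurd (Nat.eq_one_of_dvd_coprimes h.cop this dvd_rfl) (by omega)

theorem Sizes.exists_part (h : Sizes G n m) :
    ∃ (q : ℕ) (x : G), q.Prime ∧ PW q x ∧ ind x = n := by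
  obtain ⟨z, hz⟩ := h.exn
  by_contra hne
  have hzZ : z ∈ center G := TwoSizes.mem_of_parts fun t ht _ i hi => by
    by_contra hi'
    have hd : ind (z ^ i) ∣ n :=
      hz ▸ ind_dvd_of_le (TwoSizes.cent_mono_of_mem_zpowers (pow_mem (mem_zpowers z) i))
    rcases h.dvd_n hd with e | e
    · exact hi' (ind_eq_one_iff.mp e)
    · exact hne ⟨t, _, ht, hi, e⟩
  rw [ind_eq_one_iff.mpr hzZ] at hz
  exact absurd hz.symm (ne_of_gt h.one_lt_n)

theorem Sizes.rel_cases (h : Sizes G n m) {x w : G} (hx : ind x = n) (hwx : w ∈ Cn x)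
    (hc : (orderOf x).Coprime (orderOf w)) :
    (Cn w).relIndex (Cn x) = 1 ∨ (Cn w).relIndex (Cn x) = m := by
  have hn := h.one_lt_n
  have hm := h.one_lt_m
  have e0 := ind_mul (mem_Cn.mp hwx).symm hc
  rw [hx] at e0
  rcases h.cases (x * w) with e | e | e | e <;> rw [e] at e0
  · have := Nat.eq_one_of_mul_eq_one_left e0.symm
    omega
  · left
    have h1 : 1 * n = (Cn w).relIndex (Cn x) * n := by rw [one_mul]; exact e0
    exact (Nat.eq_of_mul_eq_mul_right (by omega) h1).symm
  · have h1 : n ∣ m := ⟨_, e0.trans (mul_comm _ _)⟩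
    have := Nat.eq_one_of_dvd_coprimes h.cop dvd_rfl h1
    omega
  · right
    exact (Nat.eq_of_mul_eq_mul_left (show 0 < n by omega) (e0.trans (mul_comm _ _))).symm

omit [Finite G] in
theorem PW.cop {q r : ℕ} (hq : q.Prime) (hr : r.Prime) (hne : r ≠ q) {x w : G} (hx : PW q x)
    (hw : PW r w) : (orderOf x).Coprime (orderOf w) :=
  TwoSizes.PW.coprime hq hr hne.symm hx hw

/-- Inside the centraliser of a `q`-element of index `n`: the `q'`-elements are central, or `m` is
a power of `q`, or only a second prime `t` has noncentral elements and `m` is a `{q,t}`-number. -/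
theorem Sizes.trichotomy (h : Sizes G n m) {q : ℕ} (hq : q.Prime) {x : G} (hxq : PW q x)
    (hx : ind x = n) :
    (∀ r : ℕ, r.Prime → r ≠ q → ∀ w ∈ Cn x, PW r w → Cn x ≤ Cn w) ∨
    (∀ r : ℕ, r.Prime → r ∣ m → r = q) ∨
    ∃ t : ℕ, t.Prime ∧ (∀ r : ℕ, r.Prime → r ∣ m → r = q ∨ r = t) ∧
      ∀ r : ℕ, r.Prime → r ≠ q → r ≠ t → ∀ w ∈ Cn x, PW r w → Cn x ≤ Cn w := by
  classical
  by_cases hA : ∀ r : ℕ, r.Prime → r ≠ q → ∀ w ∈ Cn x, PW r w → Cn x ≤ Cn w
  · exact Or.inl hA
  push Not at hA
  obtain ⟨r₀, hr₀, hr₀q, w₀, hw₀, hw₀r, hw₀n⟩ := hA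
  right
  have hrel : ∀ v : Cn x, (orderOf v).Coprime q →
      (Cn v).index = 1 ∨ (Cn v).index = m := fun v hv => by
    rw [index_Cn_coe]
    obtain ⟨k, hk⟩ := PW.orderOf_eq hq hxq
    refine h.rel_cases hx v.2 ?_
    rw [hk, orderOf_coe]
    exact hv.symm.pow_left k
  have hw₀c : (orderOf (⟨w₀, hw₀⟩ : Cn x)).Coprime q := by
    rw [← orderOf_coe]
    exact hw₀r.reg hr₀ hq hr₀q
  have hw₀m : (Cn (⟨w₀, hw₀⟩ : Cn x)).index = m := by
    refine (hrel _ hw₀c).resolve_left fun e => hw₀n ?_
    rw [index_Cn_coe] at e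
    exact relIndex_eq_one.mp e
  have hm1 := h.one_lt_m
  have h2 : Set.ncard (Set.range fun v : {v : Cn x // (orderOf v).Coprime q} =>
      (ConjClasses.mk (v : Cn x)).carrier.ncard) = 2 := by
    have he : (Set.range fun v : {v : Cn x // (orderOf v).Coprime q} =>
        (ConjClasses.mk (v : Cn x)).carrier.ncard) = {1, m} := by
      ext k
      simp only [Set.mem_range, Cfsg.Agent.S4035.carrier_ncard_eq_index, Set.mem_insert_iff,
        Set.mem_singleton_iff]
      constructor
      · rintro ⟨⟨v, hv⟩, rfl⟩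
        exact hrel v hv
      · rintro (rfl | rfl)
        · exact ⟨⟨1, by simp⟩, ind_eq_one_iff.mpr (one_mem _)⟩
        · exact ⟨⟨_, hw₀c⟩, hw₀m⟩
    rw [he, Set.ncard_pair (by omega)]
  rcases Cfsg.Agent.S4033.result hq h2 with ⟨H, hH, -, k, hk⟩ |
    ⟨t, htF, P, Q, A, htq, hAZ, hcard, hN, hinf, hsup⟩
  · left
    have : Fact r₀.Prime := ⟨hr₀⟩
    have hfull : (Nat.card (Cn x)).factorization r₀ ≤ (Nat.card H).factorization r₀ := by
      have h1 := congrArg (fun j : ℕ => j.factorization r₀) H.index_mul_card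
      rw [hk] at h1
      simp only [Nat.factorization_mul (pow_ne_zero k hq.ne_zero) Nat.card_pos.ne', Finsupp.add_apply,
        hq.factorization_pow, Finsupp.single_eq_of_ne hr₀q, zero_add] at h1
      omega
    have hwPW : PW r₀ (⟨w₀, hw₀⟩ : Cn x) := by
      obtain ⟨j, hj⟩ := hw₀r
      exact ⟨j, Subtype.ext (by simpa using hj)⟩
    obtain ⟨g, hg⟩ := exists_conj_mem (H := H) hfull hwPW
    intro r hr hrm
    have hle : H ≤ Cn (g * (⟨w₀, hw₀⟩ : Cn x) * g⁻¹) := fun a ha => mem_Cn.mpr (by
      have := hH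
      exact Commute.map (f := H.subtype) (Std.Commutative.comm (⟨a, ha⟩ : H) ⟨_, hg⟩))
    have hd : m ∣ q ^ k := by
      have := index_dvd_of_le hle
      rw [← hk, ← hw₀m]
      rwa [← ind, ind_conj] at this
    exact (Nat.prime_dvd_prime_iff_eq hr hq).mp (hr.dvd_of_dvd_pow (hrm.trans hd))
  · right
    have ht : t.Prime := htF.out
    have : Fact q.Prime := ⟨hq⟩
    have := hN
    set M : Subgroup (Cn x) := (P : Subgroup (Cn x)) ⊔ (Q : Subgroup (Cn x))
    obtain ⟨i, hi⟩ := IsPGroup.iff_card.mp P.2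
    obtain ⟨j, hj⟩ := IsPGroup.iff_card.mp Q.2
    rw [hi, hj] at hcard
    have hMA : M.index = Nat.card A := by
      have h1 : M.relIndex (A ⊔ M) = M.relIndex A := relIndex_sup_right (H := A) M
      rw [sup_comm, hsup, relIndex_top_right, ← inf_relIndex_right, hinf, relIndex_bot_left] at h1
      exact h1
    have hAM : A.index = Nat.card M := by
      have h1 := M.index_mul_card
      rw [← A.index_mul_card, hMA, mul_comm] at h1
      exact (Nat.eq_of_mul_eq_mul_right Nat.card_pos h1).symm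
    refine ⟨t, ht, fun r hr hrm => ?_, fun r hr hrq hrt w hw hwr => ?_⟩
    · have hd : m ∣ Nat.card M := by
        rw [← hw₀m, ← hAM]
        exact index_dvd_of_le fun a ha =>
          mem_Cn.mpr (mem_center_iff.mp (hAZ ha) _).symm
      rcases hr.dvd_mul.mp (hcard ▸ hrm.trans hd) with e | e
      · exact Or.inl ((Nat.prime_dvd_prime_iff_eq hr hq).mp (hr.dvd_of_dvd_pow e))
      · exact Or.inr ((Nat.prime_dvd_prime_iff_eq hr ht).mp (hr.dvd_of_dvd_pow e))
    · have : Fact r.Prime := ⟨hr⟩
      have hfull : (Nat.card (Cn x)).factorization r ≤ (Nat.card A).factorization r := by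
        have h1 := congrArg (fun j : ℕ => j.factorization r) M.index_mul_card
        rw [hMA, hcard] at h1
        simp only [Nat.factorization_mul Nat.card_pos.ne' (mul_ne_zero (pow_ne_zero i hq.ne_zero)
          (pow_ne_zero j ht.ne_zero)), Nat.factorization_mul (pow_ne_zero i hq.ne_zero)
          (pow_ne_zero j ht.ne_zero), Finsupp.add_apply, hq.factorization_pow, ht.factorization_pow,
          Finsupp.single_eq_of_ne hrq, Finsupp.single_eq_of_ne hrt, add_zero] at h1
        omega
      have hwPW : PW r (⟨w, hw⟩ : Cn x) := by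
        obtain ⟨l, hl⟩ := hwr
        exact ⟨l, Subtype.ext (by simpa using hl)⟩
      obtain ⟨g, hg⟩ := exists_conj_mem (H := A) hfull hwPW
      have hZ := conj_mem_center g (hAZ hg)
      intro a ha
      have := mem_center_iff.mp hZ ⟨a, ha⟩
      exact mem_Cn.mpr (congrArg Subtype.val this)

/-- A `q`-element of index `n`, with `q ∤ m`, has a noncentral `q'`-part in its centraliser. -/
theorem Sizes.not_all_central (h : Sizes G n m) {q : ℕ} (hq : q.Prime) (hqm : ¬ q ∣ m) {x : G}
    (hxq : PW q x) (hx : ind x = n)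
    (hA : ∀ r : ℕ, r.Prime → r ≠ q → ∀ w ∈ Cn x, PW r w → Cn x ≤ Cn w) : False := by
  have hn := h.one_lt_n
  have hm := h.one_lt_m
  have : Fact q.Prime := ⟨hq⟩
  obtain ⟨r, hr, hrm⟩ := Nat.exists_prime_and_dvd (show m ≠ 1 by omega)
  have : Fact r.Prime := ⟨hr⟩
  have hrq : r ≠ q := fun e => hqm (e ▸ hrm)
  obtain ⟨y, hy⟩ := h.exm
  have hfull : (Nat.card G).factorization r ≤ (Nat.card (Cn x)).factorization r := by
    have := fact_ind x r
    rw [hx, Nat.factorization_eq_zero_of_not_dvd (h.symm.not_dvd hr hrm)] at this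
    omega
  obtain ⟨w, hw, hwr, hwZ⟩ := exists_noncentral_pw (hy.symm ▸ hrm : r ∣ ind y) hfull
  have hle := hA r hr hrq w hw hwr
  have hwn : ind w = n := by
    refine (h.dvd_n (hx ▸ ind_dvd_of_le hle)).resolve_left fun e => hwZ (ind_eq_one_iff.mp e)
  have heq := Cn_eq_of_le hle (hx.trans hwn.symm)
  have hall : ∀ t : ℕ, t.Prime → ∀ u ∈ Cn x, PW t u → Cn x ≤ Cn u := by
    intro t ht u hu hut
    by_cases htq : t = q
    · rw [heq] at hu ⊢
      have hcop : (orderOf w).Coprime (orderOf u) := PW.cop hr ht (by rw [htq]; exact hrq.symm) hwr hut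
      refine relIndex_eq_one.mp ((h.rel_cases hwn hu hcop).resolve_right fun e => ?_)
      obtain ⟨S⟩ : Nonempty (Sylow r (Cn w)) := inferInstance
      have hd : r ∣ (Cn u).relIndex (Cn w) := by rw [e]; exact hrm
      refine S.not_dvd_index (hd.trans (index_dvd_of_le ?_))
      intro g hg
      rw [mem_subgroupOf]
      have hgr : PW r (g : G) := PW.of_isPGroup (S.2.map (Cn w).subtype) ⟨g, hg, rfl⟩
      have hgx : (g : G) ∈ Cn x := by rw [heq]; exact g.2
      have hux : u ∈ Cn x := by rw [heq]; exact hu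
      exact mem_Cn_comm.mp (hA r hr hrq g hgx hgr hux)
    · exact hA t ht htq u hu hut
  have hab : ∀ g ∈ Cn x, Cn x ≤ Cn g := fun g hg a ha => mem_Cn_comm.mp
    (le_of_parts (H := Cn x) (K := Cn a)
      (fun t ht u hu hut => mem_Cn_comm.mp (hall t ht u hu hut ha)) hg)
  have hfullq : (Nat.card G).factorization q ≤ (Nat.card (Cn y)).factorization q := by
    have := fact_ind y q
    rw [hy, Nat.factorization_eq_zero_of_not_dvd hqm] at this
    omega
  obtain ⟨g, hg⟩ := exists_conj_mem hfullq hxq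
  have hy' : g⁻¹ * y * g ∈ Cn x := by
    have := mem_Cn_conj g⁻¹ (mem_Cn_comm.mp hg)
    simpa [mul_assoc] using this
  have hd := ind_dvd_of_le (hab _ hy')
  rw [show g⁻¹ * y * g = g⁻¹ * y * g⁻¹⁻¹ by rw [inv_inv], ind_conj, hy, hx] at hd
  have := Nat.eq_one_of_dvd_coprimes h.cop hd dvd_rfl
  omega

theorem isPrimePow_of_unique {k : ℕ} (hk : 1 < k) {q : ℕ}
    (h : ∀ r : ℕ, r.Prime → r ∣ k → r = q) : IsPrimePow k := by
  obtain ⟨r, hr, hrk⟩ := Nat.exists_prime_and_dvd (show k ≠ 1 by omega)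
  rw [isPrimePow_iff_unique_prime_dvd]
  exact ⟨r, ⟨hr, hrk⟩, fun s hs => (h s hs.1 hs.2).trans (h r hr hrk).symm⟩

theorem Sizes.isPrimePow_of_dvd (h : Sizes G n m) {q : ℕ} (hq : q.Prime) (hqn : q ∣ n) {x : G}
    (hxq : PW q x) (hx : ind x = n) : IsPrimePow m := by
  rcases h.trichotomy hq hxq hx with hA | hB | ⟨t, ht, hB, -⟩
  · exact (h.not_all_central hq (h.not_dvd hq hqn) hxq hx hA).elim
  · exact isPrimePow_of_unique h.one_lt_m hB
  · refine isPrimePow_of_unique (q := t) h.one_lt_m fun r hr hrm =>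
      (hB r hr hrm).resolve_left fun e => h.not_dvd hq hqn (e ▸ hrm)

/-- When `m` is not a prime power, the `n`-part of a centraliser of index `n` is central. -/
theorem Sizes.center_fact (h : Sizes G n m) (hm : ¬ IsPrimePow m) {r : ℕ} (hr : r.Prime)
    (hrn : r ∣ n) :
    n.factorization r + (Nat.card (center G)).factorization r = (Nat.card G).factorization r := by
  have : Fact r.Prime := ⟨hr⟩
  obtain ⟨q, x, hq, hxq, hx⟩ := h.exists_part
  have hnd : ∀ {s : ℕ} {z : G}, s.Prime → PW s z → ind z = n → ¬ s ∣ n := fun hs hz hzn hd =>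
    hm (h.isPrimePow_of_dvd hs hd hz hzn)
  have hrq : r ≠ q := fun e => hnd hq hxq hx (e ▸ hrn)
  have hcen : ∀ w ∈ Cn x, PW r w → w ∈ center G := by
    intro w hw hwr
    have hle : Cn x ≤ Cn w := by
      rcases h.trichotomy hq hxq hx with hA | hB | ⟨t, ht, hB, hC⟩
      · exact hA r hr hrq w hw hwr
      · exact (hm (isPrimePow_of_unique h.one_lt_m hB)).elim
      · refine hC r hr hrq (fun e => ?_) w hw hwr
        refine hm (isPrimePow_of_unique h.one_lt_m fun s hs hsm => (hB s hs hsm).resolve_right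
          fun e' => h.not_dvd hr hrn ?_)
        rw [e, ← e']; exact hsm
    rcases h.dvd_n (hx ▸ ind_dvd_of_le hle) with e | e
    · exact ind_eq_one_iff.mp e
    · exact (hnd hr hwr e hrn).elim
  rw [← fact_eq_center hcen, ← hx]
  exact fact_ind x r

theorem Sizes.center_fact_other (h : Sizes G n m) {r : ℕ} (hr : r.Prime) (hn : ¬ r ∣ n)
    (hm : ¬ r ∣ m) :
    (Nat.card (center G)).factorization r = (Nat.card G).factorization r := by
  have : Fact r.Prime := ⟨hr⟩
  obtain ⟨R⟩ : Nonempty (Sylow r G) := inferInstance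
  have hR : (R : Subgroup G) ≤ center G := Cfsg.Agent.S4314.sylow_le_center R fun x hd => by
    change r ∣ ind x at hd
    rcases h.cases x with e | e | e | e <;> rw [e] at hd
    · exact hr.not_dvd_one hd
    · exact hn hd
    · exact hm hd
    · exact (hr.dvd_mul.mp hd).elim hn hm
  refine le_antisymm ?_ (sylow_fact R ▸ fact_card_le hR r)
  exact (Nat.factorization_le_iff_dvd Nat.card_pos.ne' Nat.card_pos.ne').mpr (card_subgroup_dvd_card _) r

theorem Cn_ne_center {u : G} {k : ℕ} (hk : 1 < k) (hu : ind u = k)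
    (h : ∀ r : ℕ, r.Prime → (Nat.card (Cn u)).factorization r = (Nat.card (center G)).factorization r) :
    False := by
  have hc : Nat.card (Cn u) = Nat.card (center G) :=
    Nat.eq_of_factorization_eq Nat.card_pos.ne' Nat.card_pos.ne' fun r => by
      by_cases hr : r.Prime
      · exact h r hr
      · simp [Nat.factorization_eq_zero_of_not_prime _ hr]
  have heq := eq_of_le_of_card_ge (center_le_Cn u) hc.le
  have : u ∈ center G := heq.ge (mem_Cn.mpr (Commute.refl u))
  rw [ind_eq_one_iff.mpr this] at hu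
  omega

theorem Sizes.fact_nm (h : Sizes G n m) (r : ℕ) :
    (n * m).factorization r = n.factorization r + m.factorization r := by
  have h1 := h.one_lt_n
  have h2 := h.one_lt_m
  rw [Nat.factorization_mul (by omega) (by omega), Finsupp.add_apply]

theorem Sizes.one_prime_pow (h : Sizes G n m) : IsPrimePow n ∨ IsPrimePow m := by
  by_contra hne
  push Not at hne
  obtain ⟨u, hu⟩ := h.exnm
  refine Cn_ne_center (Nat.one_lt_mul_iff.mpr ⟨by linarith [h.one_lt_n], by linarith [h.one_lt_m],
    Or.inl h.one_lt_n⟩) hu fun r hr => ?_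
  have h1 := fact_ind u r
  rw [hu, h.fact_nm] at h1
  by_cases hn : r ∣ n
  · have := h.center_fact hne.2 hr hn
    rw [Nat.factorization_eq_zero_of_not_dvd (h.not_dvd hr hn)] at h1
    omega
  by_cases hm : r ∣ m
  · have := h.symm.center_fact hne.1 hr hm
    rw [Nat.factorization_eq_zero_of_not_dvd hn] at h1
    omega
  have := h.center_fact_other hr hn hm
  rw [Nat.factorization_eq_zero_of_not_dvd hn, Nat.factorization_eq_zero_of_not_dvd hm] at h1
  omega

theorem Sizes.isPrimePow_right (h : Sizes G n m) (hn : IsPrimePow n) : IsPrimePow m := by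
  by_contra hm
  obtain ⟨p, a, hp, ha, rfl⟩ := (isPrimePow_nat_iff _).mp hn
  have : Fact p.Prime := ⟨hp⟩
  have hpn : p ∣ p ^ a := dvd_pow_self p (by omega)
  have hfa : (p ^ a).factorization p = a := by rw [hp.factorization_pow, Finsupp.single_eq_same]
  have hmp : m.factorization p = 0 :=
    Nat.factorization_eq_zero_of_not_dvd (h.not_dvd hp hpn)
  have hz := h.center_fact hm hp hpn
  rw [hfa] at hz
  -- a `p`-element commuting with an element whose class has full `p`-part is central
  have hi : ∀ w c : G, PW p w → w ∈ Cn c → (ind c).factorization p = a → w ∈ center G :=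
    fun w c hw hwc hc => mem_center_of_fact hw hwc (by have := fact_ind c p; omega)
  -- every element of prime-power order with class size `m` is a `p`-element
  have hii : ∀ (s : ℕ) (y : G), s.Prime → PW s y → ind y = m → s = p := by
    intro s y hs hys hy
    by_contra hsp
    have hsn : ¬ s ∣ p ^ a := fun hd =>
      hsp ((Nat.prime_dvd_prime_iff_eq hs hp).mp (hs.dvd_of_dvd_pow hd))
    refine h.symm.not_all_central hs hsn hys hy fun r hr hrs w hw hwr => ?_
    by_cases hrp : r = p
    · subst hrp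
      refine relIndex_eq_one.mp ((h.symm.rel_cases hy hw (PW.cop hs hp hrs hys hwr)).resolve_right
        fun e => ?_)
      have e1 := ind_mul (mem_Cn.mp hw).symm (PW.cop hs hp hrs hys hwr)
      rw [e, hy] at e1
      have hwc : w ∈ Cn (y * w) := mem_Cn.mpr ((mem_Cn.mp hw).mul_right (Commute.refl w))
      have hwZ := hi w (y * w) hwr hwc (by rw [e1, h.fact_nm, hfa, hmp, add_zero])
      rw [relIndex_eq_one.mpr (le_Cn_of_center hwZ _)] at e
      exact absurd e (ne_of_lt h.one_lt_n)
    · rcases h.symm.trichotomy hs hys hy with hA | hB | ⟨t, ht, hB, hC⟩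
      · exact hA r hr hrs w hw hwr
      · exact absurd (hB p hp hpn).symm hsp
      · have htp : t = p := ((hB p hp hpn).resolve_left (Ne.symm hsp)).symm
        exact hC r hr hrs (htp ▸ hrp) w hw hwr
  obtain ⟨s, y, hs, hys, hy⟩ := h.symm.exists_part
  obtain rfl : s = p := hii s y hs hys hy
  obtain ⟨u, hu⟩ := h.exnm
  refine Cn_ne_center (Nat.one_lt_mul_iff.mpr ⟨by linarith [h.one_lt_n], by linarith [h.one_lt_m],
    Or.inl h.one_lt_n⟩) hu fun r hr => ?_
  have h1 := fact_ind u r
  rw [hu, h.fact_nm] at h1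
  have : Fact r.Prime := ⟨hr⟩
  by_cases hrp : r = s
  · subst hrp
    omega
  · have h2 : ∀ w ∈ Cn y, PW r w → w ∈ center G := by
      intro w hw hwr
      by_contra hwZ
      have hwa : (ind w).factorization s = a := by
        rcases h.cases w with e | e | e | e
        · exact absurd (ind_eq_one_iff.mp e) hwZ
        · rw [e, hfa]
        · exact absurd (hii r w hr hwr e) hrp
        · rw [e, h.fact_nm, hfa, hmp, add_zero]
      have := hi y w hys (mem_Cn_comm.mp hw) hwa
      rw [ind_eq_one_iff.mpr this] at hy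
      exact absurd hy (ne_of_lt h.one_lt_m)
    have h3 := fact_eq_center h2
    have h4 := fact_ind y r
    rw [hy] at h4
    rw [hs.factorization_pow, Finsupp.single_eq_of_ne hrp] at h1
    omega

theorem Sizes.isPrimePow (h : Sizes G n m) : IsPrimePow n ∧ IsPrimePow m := by
  rcases h.one_prime_pow with hn | hm
  · exact ⟨hn, h.isPrimePow_right hn⟩
  · exact ⟨h.symm.isPrimePow_right hm, hm⟩

end Cfsg.Lib.ClassNM
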