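import Cfsg.Agent.Lib.ClassNM.PrimePower
import Cfsg.Agent.Lib.Core.Layer
import Cfsg.Agent.Lib.Core.Cores
import Cfsg.Agent.Lib.Coprime.PGroupAction
import Cfsg.Agent.Lib.Fusion.Parts
import Cfsg.Agent.S0144

/-!
# Class sizes `1, p^a, q^b, p^a q^b`: common facts
-/

set_option autoImplicit false

namespace Cfsg.Lib.ClassNM

open Subgroup
open Cfsg.Lib.TwoSizes (PW)

variable {G : Type*} [Group G] [Finite G] {p q a b : ℕ}

/-- The class sizes are `1, p^a, q^b, p^a q^b`. -/
structure PQ (G : Type*) [Group G] (p q a b : ℕ) : Prop where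
  hp : p.Prime
  hq : q.Prime
  ha : 0 < a
  hb : 0 < b
  sizes : Sizes G (p ^ a) (q ^ b)

omit [Finite G] in
theorem PQ.symm (h : PQ G p q a b) : PQ G q p b a := ⟨h.hq, h.hp, h.hb, h.ha, h.sizes.symm⟩

omit [Finite G] in
theorem PQ.ne (h : PQ G p q a b) : p ≠ q := fun e => by
  subst e
  exact h.sizes.not_dvd h.hp (dvd_pow_self p h.ha.ne') (dvd_pow_self p h.hb.ne')

theorem PQ.fact_cases (h : PQ G p q a b) {x : G} (hx : x ∉ center G) :
    (ind x = p ^ a ∧ (ind x).factorization p = a ∧ (ind x).factorization q = 0) ∨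
    (ind x = q ^ b ∧ (ind x).factorization p = 0 ∧ (ind x).factorization q = b) ∨
    (ind x = p ^ a * q ^ b ∧ (ind x).factorization p = a ∧ (ind x).factorization q = b) := by
  have hne := h.ne
  have e1 : (p ^ a).factorization p = a := by rw [h.hp.factorization_pow, Finsupp.single_eq_same]
  have e2 : (p ^ a).factorization q = 0 := by
    rw [h.hp.factorization_pow, Finsupp.single_eq_of_ne hne.symm]
  have e3 : (q ^ b).factorization q = b := by rw [h.hq.factorization_pow, Finsupp.single_eq_same]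
  have e4 : (q ^ b).factorization p = 0 := by
    rw [h.hq.factorization_pow, Finsupp.single_eq_of_ne hne]
  rcases h.sizes.cases x with e | e | e | e
  · exact absurd (ind_eq_one_iff.mp e) hx
  · exact Or.inl ⟨e, by rw [e, e1], by rw [e, e2]⟩
  · exact Or.inr (Or.inl ⟨e, by rw [e, e4], by rw [e, e3]⟩)
  · exact Or.inr (Or.inr ⟨e, by rw [e, h.sizes.fact_nm, e1, e4, add_zero],
      by rw [e, h.sizes.fact_nm, e2, e3, zero_add]⟩)

theorem PQ.not_center (h : PQ G p q a b) {x : G}
    (hx : ind x = p ^ a ∨ ind x = q ^ b ∨ ind x = p ^ a * q ^ b) : x ∉ center G := fun hc => by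
  have h1 := h.sizes.one_lt_n
  have h2 := h.sizes.one_lt_m
  rw [ind_eq_one_iff.mpr hc] at hx
  rcases hx with e | e | e
  · omega
  · omega
  · have := Nat.eq_one_of_mul_eq_one_right e.symm
    omega

theorem PQ.other_central (h : PQ G p q a b) {r : ℕ} (hr : r.Prime) (hrp : r ≠ p) (hrq : r ≠ q)
    {w : G} (hw : PW r w) : w ∈ center G := by
  have : Fact r.Prime := ⟨hr⟩
  have h1 := h.sizes.center_fact_other hr
    (fun hd => hrp ((Nat.prime_dvd_prime_iff_eq hr h.hp).mp (hr.dvd_of_dvd_pow hd)))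
    (fun hd => hrq ((Nat.prime_dvd_prime_iff_eq hr h.hq).mp (hr.dvd_of_dvd_pow hd)))
  obtain ⟨g, hg⟩ := exists_conj_mem (H := center G) h1.ge hw
  exact conj_mem_center g hg

/-- An element commuting with all `p`- and `q`-elements is central. -/
theorem PQ.mem_center_of_commute (h : PQ G p q a b) {x : G}
    (hp : ∀ w : G, PW p w → Commute x w) (hq : ∀ w : G, PW q w → Commute x w) : x ∈ center G := by
  refine ind_eq_one_iff.mp ?_
  rw [ind, index_eq_one, eq_top_iff]
  refine le_of_parts fun r hr g _ hg => ?_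
  rw [mem_Cn]
  by_cases hrp : r = p
  · exact (hp g (hrp ▸ hg)).symm
  by_cases hrq : r = q
  · exact (hq g (hrq ▸ hg)).symm
  · exact (mem_center_iff.mp (h.other_central hr hrp hrq hg) x).symm

theorem PQ.solvable (h : PQ G p q a b) : Group.IsSolvable G := by
  have hQ : Group.IsSolvable (G ⧸ center G) := by
    refine Cfsg.Agent.S0144.result p q ((center G).index.factorization p)
      ((center G).index.factorization q) h.hp h.hq ?_
    refine Nat.eq_of_factorization_eq Nat.card_pos.ne'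
      (mul_ne_zero (pow_ne_zero _ h.hp.ne_zero) (pow_ne_zero _ h.hq.ne_zero)) fun r => ?_
    rw [← Subgroup.index_eq_card, Nat.factorization_mul (pow_ne_zero _ h.hp.ne_zero)
      (pow_ne_zero _ h.hq.ne_zero), Finsupp.add_apply, h.hp.factorization_pow, h.hq.factorization_pow]
    by_cases hrp : r = p
    · subst hrp
      rw [Finsupp.single_eq_same, Finsupp.single_eq_of_ne h.ne, add_zero]
    by_cases hrq : r = q
    · subst hrq
      rw [Finsupp.single_eq_same, Finsupp.single_eq_of_ne hrp, zero_add]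
    rw [Finsupp.single_eq_of_ne hrp, Finsupp.single_eq_of_ne hrq, add_zero]
    by_cases hr : r.Prime
    · have h1 := h.sizes.center_fact_other hr
        (fun hd => hrp ((Nat.prime_dvd_prime_iff_eq hr h.hp).mp (hr.dvd_of_dvd_pow hd)))
        (fun hd => hrq ((Nat.prime_dvd_prime_iff_eq hr h.hq).mp (hr.dvd_of_dvd_pow hd)))
      have h2 := congrArg (fun j : ℕ => j.factorization r) (center G).index_mul_card
      simp only [Nat.factorization_mul index_ne_zero_of_finite Nat.card_pos.ne',
        Finsupp.add_apply] at h2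
      omega
    · exact Nat.factorization_eq_zero_of_not_prime _ hr
  have : Group.IsSolvable (center G) := Cfsg.Lib.Core.isSolvable_of_isMulCommutative _
  exact Group.isSolvable_of_ker_le_range (center G).subtype (QuotientGroup.mk' (center G))
    (by simp)

/-- An element of class size `nm` has centraliser inside that of each coprime commuting element. -/
theorem PQ.le_Cn_of_max (h : PQ G p q a b) {v w : G} (hv : ind v = p ^ a * q ^ b) (hw : w ∈ Cn v)
    (hc : (orderOf v).Coprime (orderOf w)) : Cn v ≤ Cn w := by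
  have e := ind_mul (mem_Cn.mp hw).symm hc
  have h1 := h.sizes.one_lt_n
  have h2 := h.sizes.one_lt_m
  have hnc : v * w ∉ center G := fun hZ => h.not_center (Or.inr (Or.inr hv))
    ((ind_eq_one_iff).mp (Nat.eq_one_of_mul_eq_one_left
      (e.symm.trans (ind_eq_one_iff.mpr hZ))))
  refine relIndex_eq_one.mp ?_
  have hd : ind v ∣ ind (v * w) := ⟨_, e.trans (mul_comm _ _)⟩
  rw [hv] at hd e
  rcases h.sizes.cases (v * w) with e' | e' | e' | e' <;> rw [e'] at hd e
  · exact absurd (ind_eq_one_iff.mp e') hnc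
  · have := Nat.eq_one_of_dvd_coprimes h.sizes.cop ((dvd_mul_left _ _).trans hd) dvd_rfl
    omega
  · have := Nat.eq_one_of_dvd_coprimes h.sizes.cop dvd_rfl ((dvd_mul_right _ _).trans hd)
    omega
  · refine (Nat.eq_of_mul_eq_mul_right (show 0 < p ^ a * q ^ b by positivity) ?_)
    rw [one_mul]; exact e.symm

/-- In the centraliser of a `q`-element of class size `q^b`, `q`-elements commute with
`p`-elements. -/
theorem PQ.commute_in_Cn (h : PQ G p q a b) {y : G} (hyq : PW q y) (hy : ind y = q ^ b) {s t : G}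
    (hs : s ∈ Cn y) (hsq : PW q s) (ht : t ∈ Cn y) (htp : PW p t) : Commute s t := by
  have : Fact q.Prime := ⟨h.hq⟩
  have : Fact p.Prime := ⟨h.hp⟩
  have hreg : ∀ w : Cn y, (orderOf w).Coprime q → ¬ q ∣ (ConjClasses.mk w).carrier.ncard := by
    intro w hw
    rw [Cfsg.Agent.S4035.carrier_ncard_eq_index]
    change ¬ q ∣ (Cn w).index
    rw [index_Cn_coe]
    obtain ⟨k, hk⟩ := PW.orderOf_eq h.hq hyq
    have hc : (orderOf y).Coprime (orderOf (w : G)) := by
      rw [hk, orderOf_coe]
      exact hw.symm.pow_left k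
    rcases h.sizes.symm.rel_cases hy w.2 hc with e | e <;> rw [e]
    · exact h.hq.not_dvd_one
    · exact fun hd => h.ne ((Nat.prime_dvd_prime_iff_eq h.hq h.hp).mp (h.hq.dvd_of_dvd_pow hd)).symm
  obtain ⟨S⟩ : Nonempty (Sylow q (Cn y)) := inferInstance
  obtain ⟨hSn, H, hH, hHq, hinf, hsup⟩ := Cfsg.Agent.S4035.result hreg S
  have hsS : (⟨s, hs⟩ : Cn y) ∈ (S : Subgroup (Cn y)) := by
    have hp' : PW q (⟨s, hs⟩ : Cn y) := by
      obtain ⟨k, hk⟩ := hsq
      exact ⟨k, Subtype.ext (by simpa using hk)⟩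
    obtain ⟨g, hg⟩ := exists_conj_mem (H := (S : Subgroup (Cn y))) (sylow_fact S).ge hp'
    simpa [mul_assoc] using hSn.conj_mem _ hg g⁻¹
  have hidx : H.index = Nat.card (S : Subgroup (Cn y)) := by
    have h1 : H.relIndex ((S : Subgroup (Cn y)) ⊔ H) = H.relIndex S :=
      relIndex_sup_right (H := (S : Subgroup (Cn y))) H
    rw [hsup, relIndex_top_right, ← inf_relIndex_right, inf_comm, hinf, relIndex_bot_left] at h1
    exact h1
  have htH : (⟨t, ht⟩ : Cn y) ∈ H := by
    have hp' : PW p (⟨t, ht⟩ : Cn y) := by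
      obtain ⟨k, hk⟩ := htp
      exact ⟨k, Subtype.ext (by simpa using hk)⟩
    have hfull : (Nat.card (Cn y)).factorization p ≤ (Nat.card H).factorization p := by
      have h1 := congrArg (fun j : ℕ => j.factorization p) H.index_mul_card
      rw [hidx, S.card_eq_multiplicity] at h1
      simp only [Nat.factorization_mul (pow_ne_zero _ h.hq.ne_zero) Nat.card_pos.ne',
        Finsupp.add_apply, h.hq.factorization_pow, Finsupp.single_eq_of_ne h.ne, zero_add] at h1
      omega
    obtain ⟨g, hg⟩ := exists_conj_mem (H := H) hfull hp'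
    simpa [mul_assoc] using hH.conj_mem _ hg g⁻¹
  have := commute_of_normal_of_disjoint (S : Subgroup (Cn y)) H hSn hH (disjoint_iff.mpr hinf)
    _ _ hsS htH
  exact this.map (Cn y).subtype

/-- There are no `q`-elements of class size `p^a` if one has class size `q^b`. -/
theorem PQ.no_crossing (h : PQ G p q a b) {x y : G} (hyq : PW q y) (hy : ind y = q ^ b)
    (hxq : PW q x) (hx : ind x = p ^ a) : False := by
  have : Fact q.Prime := ⟨h.hq⟩
  have : Fact p.Prime := ⟨h.hp⟩
  have hfull : (Nat.card G).factorization q ≤ (Nat.card (Cn x)).factorization q := by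
    have := fact_ind x q
    rw [hx, h.hp.factorization_pow, Finsupp.single_eq_of_ne h.ne.symm] at this
    omega
  obtain ⟨g, hg⟩ := exists_conj_mem hfull hyq
  obtain ⟨P, hP⟩ := exists_sylow_le_Cn (p := p) (x := g * y * g⁻¹)
    (by rw [ind_conj, hy, h.hq.factorization_pow, Finsupp.single_eq_of_ne h.ne])
  have h1 := ind_fact_zero_of_sylow (x := x) P fun t ht => mem_Cn.mpr
    (h.commute_in_Cn (PW_conj g hyq) (by rw [ind_conj, hy]) (mem_Cn_comm.mp hg) hxq (hP ht)
      (PW.of_isPGroup P.2 ht)).symm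
  rw [hx, h.hp.factorization_pow, Finsupp.single_eq_same] at h1
  have := h.ha
  omega

/-- A `p`-subgroup of `C` containing a subgroup with the full `p`-part of `C` equals it. -/
theorem eq_of_fact {p : ℕ} [Fact p.Prime] {A B C : Subgroup G} (hB : IsPGroup p B) (hAB : A ≤ B)
    (hBC : B ≤ C) (hf : (Nat.card C).factorization p ≤ (Nat.card A).factorization p) : A = B := by
  refine eq_of_le_of_card_ge hAB ?_
  rw [card_eq_pow_fact hB, card_eq_pow_fact (hB.to_le hAB)]
  exact Nat.pow_le_pow_right (Nat.Prime.pos Fact.out) ((fact_card_le hBC p).trans hf)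

theorem PW.mul {t : ℕ} {x y : G} (hxy : Commute x y) (hx : PW t x) (hy : PW t y) :
    PW t (x * y) := by
  obtain ⟨k, hk⟩ := hx
  obtain ⟨l, hl⟩ := hy
  refine ⟨k + l, ?_⟩
  rw [hxy.mul_pow, pow_add, pow_mul, hk, one_pow, mul_comm (t ^ k), pow_mul, hl, one_pow, one_mul]

/-- A `p`-element `g` commuting with `e` and with `v`, where `v e v⁻¹ = e g`, is trivial. -/
theorem eq_one_of_fix_diff {e g v : G} (hp : p.Prime) (hq : q.Prime) (hne : p ≠ q) (hg : PW p g)
    (hv : PW q v) (hgv : Commute g v) (he : v * e * v⁻¹ = e * g) : g = 1 := by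
  have key : ∀ k : ℕ, v ^ k * e * (v ^ k)⁻¹ = e * g ^ k := by
    intro k
    induction k with
    | zero => simp
    | succ k ih =>
      have h1 : v * g ^ k * v⁻¹ = g ^ k := by
        rw [← (hgv.pow_left k).eq, mul_inv_cancel_right]
      calc v ^ (k + 1) * e * (v ^ (k + 1))⁻¹ = v * (v ^ k * e * (v ^ k)⁻¹) * v⁻¹ := by
            rw [pow_succ']; simp [mul_assoc]
        _ = (v * e * v⁻¹) * (v * g ^ k * v⁻¹) := by rw [ih]; simp [mul_assoc]
        _ = e * g ^ (k + 1) := by rw [he, h1, mul_assoc, ← pow_succ']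
  obtain ⟨k, hk⟩ := hv
  obtain ⟨l, hl⟩ := hg
  have h1 := key (q ^ k)
  rw [hk] at h1
  simp at h1
  have h2 : orderOf g ∣ 1 := by
    have hc : (q ^ k).Coprime (p ^ l) := ((Nat.coprime_primes hq hp).mpr hne.symm).pow k l
    rw [← hc.gcd_eq_one]
    exact Nat.dvd_gcd (orderOf_dvd_of_pow_eq_one (by simpa using h1))
      (orderOf_dvd_of_pow_eq_one hl)
  exact orderOf_eq_one_iff.mp (Nat.dvd_one.mp h2)

theorem pCore_normal (r : ℕ) (G : Type*) [Group G] : (Cfsg.pCore r G).Normal :=
  sSup_normal _ fun _ h => h.1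

theorem commute_pCore {r s : ℕ} [Fact r.Prime] [Fact s.Prime] (hrs : r ≠ s) {x y : G}
    (hx : x ∈ Cfsg.pCore r G) (hy : y ∈ Cfsg.pCore s G) : Commute x y :=
  commute_of_normal_of_disjoint _ _ (pCore_normal r G) (pCore_normal s G)
    (IsPGroup.disjoint_of_ne r s hrs _ _ (Cfsg.Lib.Core.pCore_isPGroup r G)
      (Cfsg.Lib.Core.pCore_isPGroup s G)) x y hx hy

/-- A `p`-element centralising `O_p` and `O_q` lies in `O_p`. -/
theorem PQ.mem_pCore (h : PQ G p q a b) {r : ℕ} (hr : r.Prime) {w : G} (hw : PW r w)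
    (hP : ∀ z ∈ Cfsg.pCore p G, Commute w z) (hQ : ∀ z ∈ Cfsg.pCore q G, Commute w z) :
    w ∈ Cfsg.pCore r G := by
  have : Fact r.Prime := ⟨hr⟩
  have := h.solvable
  have hle : Cfsg.fittingSubgroup G ≤ Cn w := by
    rw [Cfsg.Lib.Core.fittingSubgroup_eq_iSup_pCore]
    refine iSup_le fun s z hz => mem_Cn.mpr ?_
    by_cases hsp : (s : ℕ) = p
    · exact (hP z (hsp ▸ hz)).symm
    by_cases hsq : (s : ℕ) = q
    · exact (hQ z (hsq ▸ hz)).symm
    have hzc := h.other_central s.2 hsp hsq
      (PW.of_isPGroup (Cfsg.Lib.Core.pCore_isPGroup (s : ℕ) G) hz)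
    exact (mem_center_iff.mp hzc w).symm
  refine Cfsg.Lib.Fusion.mem_pCore_of_mem_fitting
    (Cfsg.Lib.Core.centralizer_fitting_le_of_isSolvable ?_) (PW.orderOf_eq hr hw)
  exact mem_centralizer_iff.mpr fun z hz => (mem_Cn.mp (hle hz)).eq

end Cfsg.Lib.ClassNM
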