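import Cfsg.Agent.Lib.ClassNM.Setup

/-!
# Class sizes `1, p^a, q^b, p^a q^b` with a `q`-element of class size `q^b`

Then every `q`-element centralises `O_p`.
-/

set_option autoImplicit false

namespace Cfsg.Lib.ClassNM

open Subgroup
open Cfsg.Lib.TwoSizes (PW)
open scoped commutatorElement

variable {G : Type*} [Group G] [Finite G] {p q a b : ℕ}

omit [Finite G] in
/-- If `v` centralises `x` and `⁅w,x⁆` is central then `w⁻¹ (v w v⁻¹)` centralises `x`. -/
theorem diff_commute {x w v : G} (hvx : Commute v x) (hc : ⁅w, x⁆ ∈ center G) :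
    Commute (w⁻¹ * (v * w * v⁻¹)) x := by
  set c := ⁅w, x⁆ with hc'
  have h1 : w * x * w⁻¹ = c * x := by simp [hc', commutatorElement_def]
  have h2 : v * (w * x * w⁻¹) * v⁻¹ = c * x := by
    rw [h1, ← mul_assoc, mem_center_iff.mp hc v, mul_assoc c, hvx.eq, mul_assoc, mul_assoc,
      mul_inv_cancel, mul_one]
  have h3 : v * x * v⁻¹ = x := by rw [hvx.eq, mul_inv_cancel_right]
  have h3' : v⁻¹ * x * v = x := by rw [mul_assoc, ← hvx.eq, inv_mul_cancel_left]
  have h4 : (w⁻¹ * (v * w * v⁻¹)) * x * (w⁻¹ * (v * w * v⁻¹))⁻¹ = x := by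
    calc (w⁻¹ * (v * w * v⁻¹)) * x * (w⁻¹ * (v * w * v⁻¹))⁻¹
        = w⁻¹ * (v * (w * (v⁻¹ * x * v) * w⁻¹) * v⁻¹) * w := by simp [mul_assoc]
      _ = w⁻¹ * (c * x) * w := by rw [h3', h2]
      _ = w⁻¹ * (w * x * w⁻¹) * w := by rw [h1]
      _ = x := by simp [mul_assoc]
  exact mul_inv_eq_iff_eq_mul.mp h4

theorem PQ.straight_fix (h : PQ G p q a b) (hy : ∃ y : G, PW q y ∧ ind y = q ^ b) {v : G}
    (hv : PW q v) : ∀ w ∈ Cfsg.pCore p G, Commute v w := by
  have : Fact p.Prime := ⟨h.hp⟩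
  have : Fact q.Prime := ⟨h.hq⟩
  have := pCore_normal p G
  set R := Cfsg.pCore p G with hR
  have hRp : IsPGroup p R := Cfsg.Lib.Core.pCore_isPGroup p G
  intro w hw
  by_contra hvw
  obtain ⟨y₀, hy₀q, hy₀⟩ := hy
  have ha := h.ha
  -- no `q`-element of class size `p^a`; some `p`-element of class size `p^a`
  obtain ⟨r, x₀, hr, hx₀r, hx₀⟩ := h.sizes.exists_part
  obtain rfl : r = p := by
    by_contra hrp
    by_cases hrq : r = q
    · exact h.no_crossing hy₀q hy₀ (hrq ▸ hx₀r) hx₀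
    · exact h.not_center (Or.inl hx₀) (h.other_central hr hrp hrq hx₀r)
  have hpel : ∀ z : G, PW r z → z ∉ center G → (ind z).factorization r = a := fun z hz hzZ => by
    rcases h.fact_cases hzZ with e | e | e
    · exact e.2.1
    · exact (h.symm.no_crossing hx₀r hx₀ hz e.1).elim
    · exact e.2.1
  have hvZ : v ∉ center G := fun hc => hvw (mem_center_iff.mp hc w).symm
  have hvnm : ind v = r ^ a * q ^ b := by
    rcases h.fact_cases hvZ with e | e | e
    · exact (h.no_crossing hy₀q hy₀ hv e.1).elim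
    · obtain ⟨P, hP⟩ := exists_sylow_le_Cn (p := r) e.2.1
      exact absurd (mem_Cn.mp (hP (Cfsg.Lib.Core.pCore_le_sylow P hw))).symm hvw
    · exact e.1
  have hva : (ind v).factorization r = a := by
    rw [hvnm, h.sizes.fact_nm, h.hp.factorization_pow, h.hq.factorization_pow,
      Finsupp.single_eq_same, Finsupp.single_eq_of_ne h.ne, add_zero]
  -- a Sylow `q`-subgroup `Q ∋ v` centralising a conjugate `x` of `x₀`
  obtain ⟨Q, hQ⟩ := hv.isPGroup_zpowers.exists_le_sylow
  have hvQ : v ∈ (Q : Subgroup G) := hQ (mem_zpowers v)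
  obtain ⟨Q₀, hQ₀⟩ := exists_sylow_le_Cn (p := q) (x := x₀) (by
    rw [hx₀, h.hp.factorization_pow, Finsupp.single_eq_of_ne h.ne.symm])
  obtain ⟨g, hg⟩ := MulAction.exists_smul_eq G Q₀ Q
  set x := g * x₀ * g⁻¹ with hx'
  have hxp : PW r x := PW_conj g hx₀r
  have hx : ind x = r ^ a := by rw [hx', ind_conj, hx₀]
  have hxa : (ind x).factorization r = a := by
    rw [hx, h.hp.factorization_pow, Finsupp.single_eq_same]
  have hQx : (Q : Subgroup G) ≤ Cn x := by
    rw [← hg, Sylow.coe_subgroup_smul]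
    rintro _ ⟨z, hz, rfl⟩
    exact mem_Cn_conj g (hQ₀ hz)
  obtain ⟨T⟩ : Nonempty (Sylow r (Cn x)) := inferInstance
  set P₀ := (T : Subgroup (Cn x)).map (Cn x).subtype with hP₀
  have hP₀p : IsPGroup r P₀ := T.2.map _
  have hP₀f : (Nat.card P₀).factorization r + a = (Nat.card G).factorization r := by
    rw [hP₀, card_map_of_injective (subtype_injective _), sylow_fact, ← hxa, add_comm]
    exact fact_ind x r
  have hP₀x : P₀ ≤ Cn x := map_subtype_le _
  have hcomm : ∀ t ∈ P₀, ∀ c ∈ (Q : Subgroup G), Commute t c := fun t ht c hc =>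
    h.symm.commute_in_Cn hxp hx (hP₀x ht) (PW.of_isPGroup hP₀p ht) (hQx hc) (PW.of_isPGroup Q.2 hc)
  have hP₀v : P₀ ≤ Cn v := fun t ht => mem_Cn.mpr (hcomm t ht v hvQ)
  -- `P₀ ≤ R`
  have hP₀R : P₀ ≤ R := by
    intro t ht
    have := h.solvable
    have : Group.IsSolvable (G ⧸ R) := Group.isSolvable_of_surjective (QuotientGroup.mk'_surjective R)
    set f := QuotientGroup.mk' R with hf
    have hsurj : Function.Surjective f := QuotientGroup.mk'_surjective R
    have hbot : Cfsg.pCore r (G ⧸ R) = ⊥ := Cfsg.Lib.Core.pCore_quotient_pCore_eq_bot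
    have hle : Cfsg.fittingSubgroup (G ⧸ R) ≤ Cn (f t) := by
      rw [Cfsg.Lib.Core.fittingSubgroup_eq_iSup_pCore]
      refine iSup_le fun s z hz => ?_
      have : Fact (s : ℕ).Prime := ⟨s.2⟩
      by_cases hsr : (s : ℕ) = r
      · rw [hsr, hbot, mem_bot] at hz
        rw [hz]; exact one_mem _
      by_cases hsq : (s : ℕ) = q
      · have h1 := Cfsg.Lib.Core.pCore_le_sylow (Q.mapSurjective hsurj) (hsq ▸ hz)
        rw [Sylow.coe_mapSurjective] at h1
        obtain ⟨c, hc, rfl⟩ := h1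
        exact mem_Cn.mpr ((hcomm t ht c hc).map f).symm
      obtain ⟨u, rfl⟩ := hsurj z
      have hzs : PW (s : ℕ) (f u) := PW.of_isPGroup (Cfsg.Lib.Core.pCore_isPGroup (s : ℕ) _) hz
      refine (?_ : u ∈ (Cn (f t)).comap f)
      refine TwoSizes.mem_of_parts fun l hl _ i hi => ?_
      rw [mem_comap]
      by_cases hlrq : l = r ∨ l = q
      · have hls : (s : ℕ) ≠ l := by
          rcases hlrq with e | e <;> rw [e]
          exacts [hsr, hsq]
        obtain ⟨k₁, hk₁⟩ := hzs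
        obtain ⟨k₂, hk₂⟩ := hi
        have hd : orderOf (f (u ^ i)) ∣ 1 := by
          rw [← (((Nat.coprime_primes s.2 hl).mpr hls).pow k₁ k₂).gcd_eq_one]
          refine Nat.dvd_gcd (orderOf_dvd_of_pow_eq_one ?_) (orderOf_dvd_of_pow_eq_one ?_)
          · rw [map_pow, ← pow_mul, mul_comm, pow_mul, hk₁, one_pow]
          · rw [← map_pow, hk₂, map_one]
        rw [orderOf_eq_one_iff.mp (Nat.dvd_one.mp hd)]
        exact one_mem _
      · push Not at hlrq
        have hc := h.other_central hl hlrq.1 hlrq.2 hi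
        exact mem_Cn.mpr (Commute.map (mem_center_iff.mp hc t).symm f)
    have htF : f t ∈ Cfsg.fittingSubgroup (G ⧸ R) := by
      refine Cfsg.Lib.Core.centralizer_fitting_le_of_isSolvable ?_
      exact mem_centralizer_iff.mpr fun z hz => (mem_Cn.mp (hle hz)).eq
    have htp : PW r (f t) := by
      obtain ⟨k, hk⟩ := PW.of_isPGroup hP₀p ht
      exact ⟨k, by rw [← map_pow, hk, map_one]⟩
    have h1 := Cfsg.Lib.Fusion.mem_pCore_of_mem_fitting htF (PW.orderOf_eq h.hp htp)
    rw [hbot, mem_bot] at h1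
    exact (QuotientGroup.eq_one_iff t).mp h1
  have key : ∀ c : G, (ind c).factorization r = a → P₀ ≤ Cn c → R ⊓ Cn c = P₀ := by
    intro c hca hc
    refine (eq_of_fact (hRp.to_le inf_le_left) (le_inf hP₀R hc) inf_le_right ?_).symm
    have := fact_ind c r
    omega
  have hkv := key v hva hP₀v
  have hkx := key x hxa hP₀x
  have hxP₀ : x ∈ P₀ := by
    -- `x` commutes with the `p`-group `P₀` inside its centraliser
    have hn : zpowers x ≤ normalizer (P₀ : Set G) := by
      refine le_trans ?_ (centralizer_le_normalizer _)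
      rw [zpowers_le, mem_centralizer_iff]
      exact fun t ht => (mem_Cn.mp (hP₀x ht)).eq
    have hW : IsPGroup r (zpowers x ⊔ P₀ : Subgroup G) :=
      IsPGroup.to_sup_of_normal_right' hxp.isPGroup_zpowers hP₀p hn
    have heq := eq_of_fact (C := Cn x) hW le_sup_right
      (sup_le (zpowers_le.mpr (mem_Cn.mpr (Commute.refl x))) hP₀x)
      (by have := fact_ind x r; omega)
    exact heq.ge (mem_sup_left (mem_zpowers x))
  have hvx : Commute v x := (mem_Cn.mp (hP₀v hxP₀)).symm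
  -- `P₀` is abelian
  have hab : ∀ t ∈ P₀, P₀ ≤ Cn t := fun t ht => hP₀v.trans (h.le_Cn_of_max hvnm (hP₀v ht)
    (TwoSizes.PW.coprime h.hq h.hp h.ne.symm hv (PW.of_isPGroup hP₀p ht)))
  -- an element of the second centre of `R`
  have hRP₀ : ¬ R ≤ P₀ := fun hle => hvw (mem_Cn.mp (hP₀v (hle hw))).symm
  have hZR : ∀ z ∈ R, (∀ c ∈ R, Commute z c) → z ∈ center G := by
    intro z hz hzc
    by_contra hzZ
    refine hRP₀ ((key z (hpel z (PW.of_isPGroup hRp hz) hzZ) fun t ht =>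
      mem_Cn.mpr (hzc t (hP₀R ht)).symm) ▸ le_inf le_rfl fun c hc => mem_Cn.mpr (hzc c hc).symm)
  obtain ⟨e, heR, heZ, he⟩ : ∃ e ∈ R, e ∉ center G ∧ ∀ c ∈ R, ⁅e, c⁆ ∈ center G := by
    have hne : center R ≠ ⊤ := fun htop => hvw
      (mem_center_iff.mp (hZR w hw fun c hc => by
        have := mem_center_iff.mp (htop ▸ mem_top (⟨w, hw⟩ : R) : (⟨w, hw⟩ : R) ∈ center R) ⟨c, hc⟩
        exact (congrArg Subtype.val this).symm) v)
    have : Nontrivial (R ⧸ center R) :=
      Finite.one_lt_card_iff_nontrivial.mp (by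
        rw [← index_eq_card]; exact one_lt_index_of_ne_top hne)
    have : Nontrivial (center (R ⧸ center R)) := (hRp.to_quotient (center R)).center_nontrivial
    obtain ⟨⟨ebar, hebar⟩, hne1⟩ := exists_ne (1 : center (R ⧸ center R))
    obtain ⟨e, rfl⟩ := QuotientGroup.mk'_surjective (center R) ebar
    have heR' : e ∉ center R := fun hc => hne1 (Subtype.ext ((QuotientGroup.eq_one_iff e).mpr hc))
    refine ⟨e, e.2, fun hc => heR' (mem_center_iff.mpr fun c =>
      Subtype.ext (mem_center_iff.mp hc c)), fun c hc => ?_⟩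
    have hcz : ⁅e, (⟨c, hc⟩ : R)⁆ ∈ center R := by
      rw [← QuotientGroup.eq_one_iff]
      exact (map_commutatorElement (QuotientGroup.mk' (center R)) e ⟨c, hc⟩).trans
        (Commute.commutator_eq (mem_center_iff.mp hebar _).symm)
    exact hZR _ (⁅e, (⟨c, hc⟩ : R)⁆).2 fun d hd =>
      (congrArg Subtype.val (mem_center_iff.mp hcz ⟨d, hd⟩)).symm
  have hxR := hP₀R hxP₀
  have fixed : ∀ c ∈ R, c⁻¹ * (v * c * v⁻¹) ∈ P₀ → Commute v c := by
    intro c hc hd
    have h1 := eq_one_of_fix_diff (e := c) (g := c⁻¹ * (v * c * v⁻¹)) h.hp h.hq h.ne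
      (PW.of_isPGroup hP₀p hd) hv (mem_Cn.mp (hP₀v hd)) (by simp)
    exact mul_inv_eq_iff_eq_mul.mp (inv_mul_eq_one.mp h1).symm
  have hdR : ∀ c ∈ R, c⁻¹ * (v * c * v⁻¹) ∈ R := fun c hc =>
    mul_mem (inv_mem hc) ((pCore_normal r G).conj_mem c hc v)
  have hev : Commute v e := fixed e heR (hkx.le
    ⟨hdR e heR, mem_Cn.mpr (diff_commute hvx (he x hxR))⟩)
  have heP₀ : e ∈ P₀ := hkv.le ⟨heR, mem_Cn.mpr hev.symm⟩
  have hke := key e (hpel e (PW.of_isPGroup hRp heR) heZ) (hab e heP₀)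
  refine hvw (fixed w hw (hke.le ⟨hdR w hw, mem_Cn.mpr (diff_commute hev ?_)⟩))
  rw [← commutatorElement_inv e w]
  exact inv_mem (he w hw)

end Cfsg.Lib.ClassNM
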